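import Groth.Agent.LocCohZ.K288.DepthAff
import Groth.Agent.Sga2lef.H94.StalkDepth
import Groth.Agent.CohqB.LocalQC
import Groth.Agent.LocCohZ.K287.LocVan
import Groth.Agent.LocCohZ.K287.Vanish
import Groth.Agent.S6026

/-!
# Local cohomology sheaves and depth on a locally Noetherian scheme
-/

set_option autoImplicit false
universe u

open CategoryTheory CategoryTheory.Limits Opposite AlgebraicGeometry TopologicalSpace

namespace K288.DepthGen

theorem aux6026 {X : TopCat.{u}} {W V : Opens X} (h : W ≤ V) (i : ℕ) (F : CohTop.Ab X) :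
    Nonempty (LocCohZ.HZ F i h ≃+ LocCohZ.HZc (CohTop.restr F V) i ((Opens.map (CohCx.incl V)).obj W)) := by
  obtain ⟨e, -⟩ := Groth.Agent.S6026.result h i
  exact ⟨e F⟩

/-- Cohomology with supports on an open subscheme. -/
theorem nonempty_HZ_HZM {X : Scheme.{u}} (M : X.Modules) (U V : X.Opens) (i : ℕ) :
    Nonempty (LocCohZ.HZ (X := X.toTopCat) (Coh.toAb M) i (inf_le_left : V ⊓ U ≤ V) ≃+
      LocCohZ.HZM (V : Scheme.{u}) (M.restrict V.ι) i (V.ι ⁻¹ᵁ (V ⊓ U))) :=
  aux6026 (X := X.toTopCat) (inf_le_left : V ⊓ U ≤ V) i (Coh.toAb M)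

/-- The criterion on an affine open subset. -/
theorem local_iff {X : Scheme.{u}} [IsLocallyNoetherian X] (M : X.Modules) (hM : Coh.IsCoh M) (U V : X.Opens)
    (hV : IsAffineOpen V) (n : ℕ) :
    (∀ i : ℕ, i < n → Subsingleton (LocCohZ.HZ (X := X.toTopCat) (Coh.toAb M) i (inf_le_left : V ⊓ U ≤ V))) ↔
      ∀ x : X, x ∈ V → x ∉ U → (n : ℕ∞) ≤ LocCoh.depth (X.presheaf.stalk x) (M.presheaf.stalk x) := by
  have h1 : (∀ i : ℕ, i < n → Subsingleton (LocCohZ.HZ (X := X.toTopCat) (Coh.toAb M) i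
      (inf_le_left : V ⊓ U ≤ V))) ↔
      ∀ i : ℕ, i < n → Subsingleton (LocCohZ.HZM (V : Scheme.{u}) (M.restrict V.ι) i (V.ι ⁻¹ᵁ (V ⊓ U))) := by
    refine forall_congr' fun i => imp_congr_right fun _ => ?_
    obtain ⟨e⟩ := nonempty_HZ_HZM M U V i
    exact e.toEquiv.subsingleton_congr
  have hV' : IsAffine (V : Scheme.{u}) := hV
  have hN : IsLocallyNoetherian (V : Scheme.{u}) := isLocallyNoetherian_of_isOpenImmersion V.ι
  have hN2 : IsNoetherianRing Γ((V : Scheme.{u}), ⊤) :=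
    IsLocallyNoetherian.component_noetherian ⟨⊤, isAffineOpen_top _⟩
  have hc : IsCompact ((V.ι ⁻¹ᵁ (V ⊓ U) : (V : Scheme.{u}).Opens) : Set (V : Scheme.{u})) := by
    have : IsNoetherian (V : Scheme.{u}) := { }
    exact NoetherianSpace.isCompact _
  have hM' : Coh.IsCoh (M.restrict V.ι) := Groth.Agent.CohqB.LocalQC.isCoh_restrict V.ι hM
  rw [h1, DepthAff.main (M.restrict V.ι) hM' _ hc n]
  constructor
  · intro h x hx hxU
    have h2 := h ⟨x, hx⟩ (fun hh => hxU (show x ∈ V ⊓ U from hh).2)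
    rwa [Groth.Agent.Sga2lef.H94.StalkDepth.depth_restrict_stalk V.ι M ⟨x, hx⟩] at h2
  · intro h x hx
    rw [Groth.Agent.Sga2lef.H94.StalkDepth.depth_restrict_stalk V.ι M x]
    exact h x.1 x.2 (fun hh => hx (show x.1 ∈ V ⊓ U from ⟨x.2, hh⟩))

open Groth.Agent.LocCohZ.K287 in
/-- If the cohomology with supports vanishes on all affine opens, the local cohomology sheaf vanishes. -/
theorem isZero_HZsh_of_affine {X : Scheme.{u}} (F : CohTop.Ab X.toTopCat) (U : X.Opens) (i : ℕ)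
    (h : ∀ V : X.Opens, IsAffineOpen V →
      Subsingleton (LocCohZ.HZ (X := X.toTopCat) F i (inf_le_left : V ⊓ U ≤ V))) :
    IsZero ((LocCohZ.HZsh (X := X.toTopCat) U i).obj F) := by
  refine LocVan.isZero_HZsh_of_forall (X := X.toTopCat) U F i fun V s x hx => ?_
  obtain ⟨W, hW, hxW, hWV⟩ := exists_isAffineOpen_mem_and_subset (x := x) (U := V) hx
  refine ⟨W, hWV, hxW, ?_⟩
  have := h W hW
  exact Subsingleton.elim (α := LocCohZ.HZ (X := X.toTopCat) F i (inf_le_left : W ⊓ U ≤ W)) _ _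

open Groth.Agent.LocCohZ.K287 in
/-- **Vanishing of the local cohomology sheaves below `n` and depth.** -/
theorem main {X : Scheme.{u}} [IsLocallyNoetherian X] (M : X.Modules) (hM : Coh.IsCoh M) (U : X.Opens) (n : ℕ) :
    (∀ i : ℕ, i < n → IsZero ((LocCohZ.HZsh (X := X.toTopCat) U i).obj (Coh.toAb M))) ↔
      ∀ x : X, x ∉ U → (n : ℕ∞) ≤ LocCoh.depth (X.presheaf.stalk x) (M.presheaf.stalk x) := by
  constructor
  · intro h x hx
    obtain ⟨V, hV, hxV, -⟩ := exists_isAffineOpen_mem_and_subset (x := x) (U := ⊤) trivial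
    refine (local_iff M hM U V hV n).1 (fun i hi => ?_) x hxV hx
    exact Vanish.subsingleton_HZ_of_isZero_HZsh (X := X.toTopCat) U (Coh.toAb M) n h V i hi
  · intro h i hi
    exact isZero_HZsh_of_affine (Coh.toAb M) U i fun V hV =>
      (local_iff M hM U V hV n).2 (fun x _ hx => h x hx) i hi

end K288.DepthGen
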