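import Groth.Prelude.Def_CohTop

/-!
# Sections of abelian sheaves on a space: restriction and gluing, elementwise
-/

set_option autoImplicit false
universe u
open CategoryTheory CategoryTheory.Limits Opposite TopologicalSpace

namespace K288.Sec

variable {X : TopCat.{u}}

/-- Restriction of sections. -/
abbrev rs (F : CohTop.Ab X) {V W : Opens X} (h : V ≤ W) : F.obj.obj (op W) →+ F.obj.obj (op V) :=
  (F.obj.map (homOfLE h).op).hom

theorem rs_rs (F : CohTop.Ab X) {U V W : Opens X} (h : V ≤ W) (h' : U ≤ V) (s : F.obj.obj (op W)) :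
    rs F h' (rs F h s) = rs F (h'.trans h) s := by
  have : F.obj.map (homOfLE h).op ≫ F.obj.map (homOfLE h').op = F.obj.map (homOfLE (h'.trans h)).op := by
    rw [← F.obj.map_comp]; rfl
  exact ConcreteCategory.congr_hom this s

theorem rs_self (F : CohTop.Ab X) {V : Opens X} (h : V ≤ V) (s : F.obj.obj (op V)) : rs F h s = s := by
  have : F.obj.map (homOfLE h).op = 𝟙 _ := F.obj.map_id _
  exact ConcreteCategory.congr_hom this s

theorem rs_app {F G : CohTop.Ab X} (φ : F ⟶ G) {V W : Opens X} (h : V ≤ W) (s : F.obj.obj (op W)) :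
    rs G h ((φ.hom.app (op W)).hom s) = (φ.hom.app (op V)).hom (rs F h s) :=
  (ConcreteCategory.congr_hom (φ.hom.naturality (homOfLE h).op) s).symm

theorem eq_of_iSup (F : CohTop.Ab X) {ι : Type*} {V : Opens X} (U : ι → Opens X) (hU : ∀ i, U i ≤ V)
    (hV : V ≤ iSup U) (s t : F.obj.obj (op V)) (h : ∀ i, rs F (hU i) s = rs F (hU i) t) : s = t :=
  TopCat.Sheaf.eq_of_locally_eq' (F := F) U V (fun i => homOfLE (hU i)) hV s t h

theorem eq_of_sup (F : CohTop.Ab X) {U U' V : Opens X} (hU : U ≤ V) (hU' : U' ≤ V) (hV : V ≤ U ⊔ U')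
    (s t : F.obj.obj (op V)) (h : rs F hU s = rs F hU t) (h' : rs F hU' s = rs F hU' t) : s = t :=
  TopCat.Sheaf.eq_of_locally_eq₂ (F := F) (homOfLE hU) (homOfLE hU') hV s t h h'

theorem exists_glue_iSup (F : CohTop.Ab X) {ι : Type*} {V : Opens X} (U : ι → Opens X) (hU : ∀ i, U i ≤ V)
    (hV : V ≤ iSup U) (s : ∀ i, F.obj.obj (op (U i)))
    (h : ∀ i j, rs F (inf_le_left : U i ⊓ U j ≤ U i) (s i) = rs F (inf_le_right : U i ⊓ U j ≤ U j) (s j)) :
    ∃ t : F.obj.obj (op V), ∀ i, rs F (hU i) t = s i :=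
  (TopCat.Sheaf.existsUnique_gluing' (F := F) U V (fun i => homOfLE (hU i)) hV s h).exists

theorem exists_glue (F : CohTop.Ab X) {U U' V : Opens X} (hU : U ≤ V) (hU' : U' ≤ V) (hV : V ≤ U ⊔ U')
    (s : F.obj.obj (op U)) (s' : F.obj.obj (op U'))
    (h : rs F (inf_le_left : U ⊓ U' ≤ U) s = rs F (inf_le_right : U ⊓ U' ≤ U') s') :
    ∃ t : F.obj.obj (op V), rs F hU t = s ∧ rs F hU' t = s' := by
  let W : Bool → Opens X := fun b => Bool.rec U' U b
  let σ : ∀ b, F.obj.obj (op (W b)) := fun b => Bool.rec s' s b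
  have hW : ∀ b, W b ≤ V := fun b => by cases b; exacts [hU', hU]
  have hVW : V ≤ iSup W := hV.trans (sup_le (le_iSup W true) (le_iSup W false))
  have h2 : rs F (inf_le_left : U' ⊓ U ≤ U') s' = rs F (inf_le_right : U' ⊓ U ≤ U) s := by
    have := congrArg (rs F (inf_comm U' U).le) h
    rw [rs_rs, rs_rs] at this
    exact this.symm
  obtain ⟨t, ht⟩ := exists_glue_iSup F W hW hVW σ (fun i j => by
    cases i <;> cases j
    · rfl
    · exact h2
    · exact h
    · rfl)
  exact ⟨t, ht true, ht false⟩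

end K288.Sec
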