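import Mathlib.Algebra.Homology.DerivedCategory.Ext.ExactSequences

/-!
# The contravariant long exact sequence of `Ext`, elementwise, and its consequences when the middle term vanishes
-/

set_option autoImplicit false
universe w v u
open CategoryTheory CategoryTheory.Limits Abelian

namespace K288.ExtLES

variable {T : Type u} [Category.{v} T] [Abelian T] [HasExt.{w} T] {S : ShortComplex T} (hS : S.ShortExact)
  (F : T)

/-- Restriction: precomposition with `S.f`. -/
noncomputable def res (S : ShortComplex T) (F : T) (n : ℕ) : Ext S.X₂ F n →+ Ext S.X₁ F n :=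
  (Ext.mk₀ S.f).precomp F (zero_add n)

/-- The connecting map. -/
noncomputable def delta (n : ℕ) : Ext S.X₁ F n →+ Ext S.X₃ F (n + 1) :=
  hS.extClass.precomp F (add_comm 1 n)

/-- Precomposition with `S.g`. -/
noncomputable def forg (S : ShortComplex T) (F : T) (n : ℕ) : Ext S.X₃ F n →+ Ext S.X₂ F n :=
  (Ext.mk₀ S.g).precomp F (zero_add n)

theorem delta_eq_zero_iff (n : ℕ) (x : Ext S.X₁ F n) :
    delta hS F n x = 0 ↔ ∃ y : Ext S.X₂ F n, res S F n y = x := by
  constructor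
  · intro hx
    exact Ext.contravariant_sequence_exact₁ hS F x (add_comm 1 n) hx
  · rintro ⟨y, rfl⟩
    exact hS.extClass_comp_assoc y (h := add_comm 1 n)

theorem forg_eq_zero_iff (n : ℕ) (z : Ext S.X₃ F (n + 1)) :
    forg S F (n + 1) z = 0 ↔ ∃ x : Ext S.X₁ F n, delta hS F n x = z := by
  constructor
  · intro hz
    exact Ext.contravariant_sequence_exact₃ hS F z hz (add_comm 1 n)
  · rintro ⟨x, rfl⟩
    exact hS.comp_extClass_assoc x (add_comm 1 n)

include hS in
theorem res_eq_zero_iff (n : ℕ) (y : Ext S.X₂ F n) :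
    res S F n y = 0 ↔ ∃ z : Ext S.X₃ F n, forg S F n z = y := by
  constructor
  · intro hy
    exact Ext.contravariant_sequence_exact₂ hS F y hy
  · rintro ⟨z, rfl⟩
    change (Ext.mk₀ S.f).comp ((Ext.mk₀ S.g).comp z (zero_add n)) (zero_add n) = 0
    rw [Ext.mk₀_comp_mk₀_assoc, S.zero, Ext.mk₀_zero, Ext.zero_comp]

theorem delta_bijective (n : ℕ) (h1 : Subsingleton (Ext S.X₂ F n))
    (h2 : Subsingleton (Ext S.X₂ F (n + 1))) : Function.Bijective (delta hS F n) := by
  constructor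
  · rw [injective_iff_map_eq_zero]
    intro x hx
    obtain ⟨y, rfl⟩ := (delta_eq_zero_iff hS F n x).1 hx
    exact (congrArg (res S F n) (@Subsingleton.elim _ h1 y 0)).trans (map_zero _)
  · intro z
    exact (forg_eq_zero_iff hS F n z).1 (@Subsingleton.elim _ h2 _ _)

include hS in
theorem nonempty_succ (n : ℕ) (h1 : Subsingleton (Ext S.X₂ F n))
    (h2 : Subsingleton (Ext S.X₂ F (n + 1))) : Nonempty (Ext S.X₃ F (n + 1) ≃+ Ext S.X₁ F n) :=
  ⟨(AddEquiv.ofBijective (delta hS F n) (delta_bijective hS F n h1 h2)).symm⟩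

include hS in
/-- `Ext^1(X₃, F)` is the cokernel of `Hom(X₂, F) → Hom(X₁, F)` when `Ext^1(X₂, F) = 0`; the two `Hom` groups
are presented by groups `G₁`, `G₂`. -/
theorem nonempty_one {G₁ G₂ : Type*} [AddCommGroup G₁] [AddCommGroup G₂] (e₁ : (S.X₁ ⟶ F) ≃+ G₁)
    (e₂ : (S.X₂ ⟶ F) ≃+ G₂) (ρ : G₂ →+ G₁) (hρ : ∀ f : S.X₂ ⟶ F, ρ (e₂ f) = e₁ (S.f ≫ f))
    (h1 : Subsingleton (Ext S.X₂ F 1)) :
    Nonempty (Ext S.X₃ F 1 ≃+ G₁ ⧸ ρ.range) := by
  let π : G₁ →+ Ext S.X₃ F 1 := (delta hS F 0).comp (Ext.addEquiv₀.symm.toAddMonoidHom.comp e₁.symm.toAddMonoidHom)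
  have hδ : Function.Surjective (delta hS F 0) := by
    intro z
    exact (forg_eq_zero_iff hS F 0 z).1 (@Subsingleton.elim _ h1 _ _)
  have hπ : Function.Surjective π := hδ.comp (Ext.addEquiv₀.symm.surjective.comp e₁.symm.surjective)
  have hk : π.ker = ρ.range := by
    ext s
    obtain ⟨f, rfl⟩ := e₁.surjective s
    rw [AddMonoidHom.mem_ker, AddMonoidHom.mem_range]
    have h2 : π (e₁ f) = delta hS F 0 (Ext.mk₀ f) := by
      change delta hS F 0 (Ext.addEquiv₀.symm (e₁.symm (e₁ f))) = _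
      rw [AddEquiv.symm_apply_apply]
      rfl
    rw [h2, delta_eq_zero_iff]
    constructor
    · rintro ⟨y, hy⟩
      obtain ⟨g, rfl⟩ := (Ext.mk₀_bijective _ _).2 y
      refine ⟨e₂ g, ?_⟩
      rw [hρ]
      congr 1
      apply (Ext.mk₀_bijective _ _).1
      rw [← hy]
      exact (Ext.mk₀_comp_mk₀ _ _).symm
    · rintro ⟨t, ht⟩
      obtain ⟨g, rfl⟩ := e₂.surjective t
      refine ⟨Ext.mk₀ g, ?_⟩
      rw [hρ] at ht
      rw [← e₁.injective ht]
      exact Ext.mk₀_comp_mk₀ _ _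
  exact ⟨((QuotientAddGroup.quotientAddEquivOfEq hk.symm).trans
    (QuotientAddGroup.quotientKerEquivOfSurjective π hπ)).symm⟩

end K288.ExtLES
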