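import Groth.Prelude.Def_LocCohZ
import Groth.Agent.LocCohZ.K288.ExtLES

/-!
# The long exact sequence of a pair of opens when `H^i(V, F) = 0` for `i > 0`
-/

set_option autoImplicit false
universe u
open CategoryTheory CategoryTheory.Limits Opposite TopologicalSpace Abelian

namespace K288.PairLES

variable {X : TopCat.{u}} (F : CohTop.Ab X) {W V : Opens X} (h : W ≤ V)

/-- `H^1_{V∖W}(V, F)` is the cokernel of `F(V) → F(W)` when `H^1(V, F) = 0`. -/
theorem nonempty_one (h1 : Subsingleton (CohTop.HU F 1 V)) :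
    Nonempty (LocCohZ.HZ F 1 h ≃+ F.obj.obj (op W) ⧸ (F.obj.map (homOfLE h).op).hom.range) :=
  ExtLES.nonempty_one (LocCohZ.zqSeq_shortExact h) F
    (CohFree.homEquivSect (Opens.grothendieckTopology X) W F)
    (CohFree.homEquivSect (Opens.grothendieckTopology X) V F) (F.obj.map (homOfLE h).op).hom
    (fun f => (CohFree.evalGen_freeSheafMap_comp (Opens.grothendieckTopology X) (homOfLE h) F f).symm) h1

/-- `H^{i+1}_{V∖W}(V, F) ≅ H^i(W, F)` when `H^i(V, F) = 0 = H^{i+1}(V, F)`. -/
theorem nonempty_succ (n : ℕ) (h1 : Subsingleton (CohTop.HU F n V))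
    (h2 : Subsingleton (CohTop.HU F (n + 1) V)) :
    Nonempty (LocCohZ.HZ F (n + 1) h ≃+ CohTop.HU F n W) :=
  ExtLES.nonempty_succ (LocCohZ.zqSeq_shortExact h) F n h1 h2

end K288.PairLES
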