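import Groth.Agent.LocCohZ.K288.KosAff
import Groth.Agent.LocCohZ.K288.PairLES
import Groth.Prelude.Def_Wider

/-!
# `colim_n H^i(f^n, M) ≅ H^i_Z(Spec A, M~)`
-/

set_option autoImplicit false
universe u

open CategoryTheory Opposite CohIII AlgebraicGeometry Groth.Agent.Ega3A.ExtCech Groth.Agent.Ega3A.CechLink
  Groth.Agent.Ega3A.Koszul Groth.Agent.Ega3A.SecFun

namespace K288.KosSpec

variable (A : Type u) [CommRing A] (M : Type u) [AddCommGroup M] [Module A M]

/-- The ring map `A → Γ(Spec A, O)`. -/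
noncomputable abbrev φ : A →+* Γ(Spec (CommRingCat.of A), ⊤) := (Scheme.ΓSpecIso (CommRingCat.of A)).inv.hom

/-- The sheaf `M~`. -/
noncomputable abbrev Mt : (Spec (CommRingCat.of A)).Modules :=
  AlgebraicGeometry.tilde (R := CommRingCat.of A) (ModuleCat.of A M)

/-- `M` is the module of global sections of `M~`. -/
noncomputable def eN : ModuleCat.of A M ≅ (KosAff.secA (φ A) (Mt A M)).obj (op ⊤) :=
  tilde.isoTop (R := CommRingCat.of A) (ModuleCat.of A M)

theorem iSup_fa (fs : List A) : (⨆ i, KosAff.fa (X := Spec (CommRingCat.of A)) (φ A) fs i) =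
    LocCoh.puncturedOpen A (Ideal.span {a | a ∈ fs}) := by
  have h1 : ∀ i, KosAff.fa (X := Spec (CommRingCat.of A)) (φ A) fs i =
      PrimeSpectrum.basicOpen (R := A) (fs.get i) := fun i => basicOpen_eq_of_affine _
  apply TopologicalSpace.Opens.ext
  rw [TopologicalSpace.Opens.coe_iSup]
  ext x
  rw [Set.mem_iUnion]
  have h2 : (∃ i, x ∈ (KosAff.fa (X := Spec (CommRingCat.of A)) (φ A) fs i : Set _)) ↔
      ∃ i, x ∈ PrimeSpectrum.basicOpen (R := A) (fs.get i) :=
    exists_congr fun i => by rw [h1 i]; exact Iff.rfl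
  rw [h2]
  have h3 : ∀ y : PrimeSpectrum A, (∃ i, y ∈ PrimeSpectrum.basicOpen (fs.get i)) ↔
      ¬ y ∈ PrimeSpectrum.zeroLocus (R := A) ((Ideal.span {a | a ∈ fs} : Ideal A) : Set A) := by
    intro y
    rw [PrimeSpectrum.zeroLocus_span, PrimeSpectrum.mem_zeroLocus, Set.not_subset]
    constructor
    · rintro ⟨i, hi⟩
      exact ⟨fs.get i, List.get_mem fs i, hi⟩
    · rintro ⟨a, ha, hx⟩
      obtain ⟨i, rfl⟩ := List.get_of_mem ha
      exact ⟨i, hx⟩
  exact h3 x

theorem isAffineOpen_fa (fs : List A) (i : Fin fs.length) :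
    IsAffineOpen (KosAff.fa (X := Spec (CommRingCat.of A)) (φ A) fs i) :=
  (isAffineOpen_top (Spec (CommRingCat.of A))).basicOpen _

theorem subsingleton_HU (q : ℕ) :
    Subsingleton (CohTop.HU (X := (Spec (CommRingCat.of A)).toTopCat) (Coh.toAb (Mt A M)) (q + 1) ⊤) :=
  KosAff.subsingleton_HU (Mt A M) ⊤ (isAffineOpen_top _) q

theorem main0 (fs : List A) : Nonempty (CohIII.koszulHLim fs (ModuleCat.of A M) 0 ≃+
      LocCohZ.HZM (Spec (CommRingCat.of A)) (Mt A M) 0
        (LocCoh.puncturedOpen A (Ideal.span {a | a ∈ fs}))) := by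
  have hU := iSup_fa A fs
  obtain ⟨e1⟩ := KosAff.hlim_zero (X := Spec (CommRingCat.of A)) (φ A) (Mt A M) fs _ (eN A M)
  rw [hU] at e1
  exact ⟨e1.trans (LocCohZ.sect0Equiv (X := (Spec (CommRingCat.of A)).toTopCat) (Coh.toAb (Mt A M)) le_top).symm⟩

theorem main1 (fs : List A) : Nonempty (CohIII.koszulHLim fs (ModuleCat.of A M) 1 ≃+
      LocCohZ.HZM (Spec (CommRingCat.of A)) (Mt A M) 1
        (LocCoh.puncturedOpen A (Ideal.span {a | a ∈ fs}))) := by
  have hU := iSup_fa A fs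
  obtain ⟨e1⟩ := KosAff.hlim_one (X := Spec (CommRingCat.of A)) (φ A) (Mt A M) fs _ (eN A M)
  rw [hU] at e1
  obtain ⟨e2⟩ := PairLES.nonempty_one (X := (Spec (CommRingCat.of A)).toTopCat) (Coh.toAb (Mt A M))
    (le_top : LocCoh.puncturedOpen A (Ideal.span {a | a ∈ fs}) ≤ ⊤) (subsingleton_HU A M 0)
  exact ⟨e1.trans e2.symm⟩

theorem main2 (fs : List A) (i : ℕ) : Nonempty (CohIII.koszulHLim fs (ModuleCat.of A M) (i + 1 + 1) ≃+
      LocCohZ.HZM (Spec (CommRingCat.of A)) (Mt A M) (i + 1 + 1)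
        (LocCoh.puncturedOpen A (Ideal.span {a | a ∈ fs}))) := by
  have hU := iSup_fa A fs
  obtain ⟨e1⟩ := KosAff.hlim_HU (X := Spec (CommRingCat.of A)) (φ A) (Mt A M) fs _ (eN A M)
    (isAffineOpen_fa A fs) i
  rw [hU] at e1
  obtain ⟨e2⟩ := PairLES.nonempty_succ (X := (Spec (CommRingCat.of A)).toTopCat) (Coh.toAb (Mt A M))
    (le_top : LocCoh.puncturedOpen A (Ideal.span {a | a ∈ fs}) ≤ ⊤) (i + 1) (subsingleton_HU A M i)
    (subsingleton_HU A M (i + 1))
  exact ⟨e1.trans e2.symm⟩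

/-- **Koszul and local cohomology.** -/
theorem main (fs : List A) (i : ℕ) :
    Nonempty (CohIII.koszulHLim fs (ModuleCat.of A M) i ≃+
      LocCohZ.HZM (Spec (CommRingCat.of A)) (Mt A M) i
        (LocCoh.puncturedOpen A (Ideal.span {a | a ∈ fs}))) := by
  rcases i with _ | _ | i
  · exact main0 A M fs
  · exact main1 A M fs
  · exact main2 A M fs i

end K288.KosSpec
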