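import Groth.Agent.LocCohZ.K288.KosAff
import Groth.Agent.LocCohZ.K288.PairLES

/-!
# `colim_n H^i(f^n, Γ(X, M)) ≅ H^i_Z(X, M)` on an affine scheme, `Z = V(f)`
-/

set_option autoImplicit false
universe u

open CategoryTheory Opposite CohIII AlgebraicGeometry Groth.Agent.Ega3A.ExtCech Groth.Agent.Ega3A.CechLink
  Groth.Agent.Ega3A.Koszul Groth.Agent.Ega3A.SecFun

namespace K288.AffZ

variable {A : Type u} [CommRing A] {X : Scheme.{u}} [IsAffine X] (φ : A →+* Γ(X, ⊤)) (M : X.Modules)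
  [Coh.IsQCoh M] (fs : List A) (N : ModuleCat.{u} A) (eN : N ≅ (KosAff.secA φ M).obj (op ⊤))

include eN

theorem main0 : Nonempty (koszulHLim fs N 0 ≃+ LocCohZ.HZM X M 0 (⨆ i, KosAff.fa φ fs i)) := by
  obtain ⟨e1⟩ := KosAff.hlim_zero φ M fs N eN
  exact ⟨e1.trans (LocCohZ.sect0Equiv (X := X.toTopCat) (Coh.toAb M) le_top).symm⟩

theorem main1 : Nonempty (koszulHLim fs N 1 ≃+ LocCohZ.HZM X M 1 (⨆ i, KosAff.fa φ fs i)) := by
  obtain ⟨e1⟩ := KosAff.hlim_one φ M fs N eN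
  obtain ⟨e2⟩ := PairLES.nonempty_one (X := X.toTopCat) (Coh.toAb M)
    (le_top : (⨆ i, KosAff.fa φ fs i) ≤ ⊤) (KosAff.subsingleton_HU M ⊤ (isAffineOpen_top _) 0)
  exact ⟨e1.trans e2.symm⟩

theorem main2 (i : ℕ) :
    Nonempty (koszulHLim fs N (i + 1 + 1) ≃+ LocCohZ.HZM X M (i + 1 + 1) (⨆ i, KosAff.fa φ fs i)) := by
  obtain ⟨e1⟩ := KosAff.hlim_HU φ M fs N eN (fun i => (isAffineOpen_top X).basicOpen _) i
  obtain ⟨e2⟩ := PairLES.nonempty_succ (X := X.toTopCat) (Coh.toAb M)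
    (le_top : (⨆ i, KosAff.fa φ fs i) ≤ ⊤) (i + 1)
    (KosAff.subsingleton_HU M ⊤ (isAffineOpen_top _) i) (KosAff.subsingleton_HU M ⊤ (isAffineOpen_top _) (i + 1))
  exact ⟨e1.trans e2.symm⟩

/-- **Koszul and local cohomology on an affine scheme.** -/
theorem main (i : ℕ) : Nonempty (koszulHLim fs N i ≃+ LocCohZ.HZM X M i (⨆ i, KosAff.fa φ fs i)) := by
  rcases i with _ | _ | i
  · exact main0 φ M fs N eN
  · exact main1 φ M fs N eN
  · exact main2 φ M fs N eN i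

end K288.AffZ
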