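import Groth.Agent.LocCohZ.K288.LCN
import Groth.Agent.Localalg.DepthLC
import Groth.Agent.QGor.K966.DepthLocal
import Groth.Agent.Ega4dB.DepthOpen
import Groth.Agent.Divis.StalkMod

/-!
# Vanishing of `H^i_Z(X, M)` and depth on an affine Noetherian scheme
-/

set_option autoImplicit false
universe u

open CategoryTheory Opposite AlgebraicGeometry TopologicalSpace

namespace K288.DepthAff

/-- `n ≤ depth_I N` iff the local cohomology vanishes below `n`. -/
theorem le_idealDepth_iff_H {R : Type u} [CommRing R] [IsNoetherianRing R] (I : Ideal R) (N : Type u)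
    [AddCommGroup N] [Module R N] [Module.Finite R N] (n : ℕ) :
    (∀ i : ℕ, i < n → Subsingleton (LocCoh.H I i N)) ↔ (n : ℕ∞) ≤ LocCoh.idealDepth I N := by
  constructor
  · intro h
    by_contra hlt
    rw [not_le] at hlt
    obtain ⟨d, hd⟩ := ENat.ne_top_iff_exists.1 (ne_top_of_lt hlt)
    rw [← hd] at hlt
    have h1 : d < n := by exact_mod_cast hlt
    have h2 := Groth.Agent.Localalg.DepthLC.nontrivial_H_idealDepth I N d hd.symm
    exact not_subsingleton_iff_nontrivial.2 h2 (h d h1)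
  · intro h i hi
    exact Groth.Agent.Localalg.DepthLC.subsingleton_H_of_lt_idealDepth I N i
      (lt_of_lt_of_le (by exact_mod_cast hi) h)

section

variable {X : Scheme.{u}} [IsAffine X]

/-- The prime ideal of a point of an affine scheme. -/
noncomputable abbrev pr (x : X) : PrimeSpectrum Γ(X, ⊤) := (isAffineOpen_top X).primeIdealOf ⟨x, trivial⟩

theorem mem_basicOpen_iff (x : X) (f : Γ(X, ⊤)) : x ∈ X.basicOpen f ↔ f ∉ (pr x).asIdeal := by
  have h1 : (isAffineOpen_top X).fromSpec (pr x) = x := (isAffineOpen_top X).fromSpec_primeIdealOf ⟨x, trivial⟩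
  have h2 := (isAffineOpen_top X).fromSpec_preimage_basicOpen f
  have h3 : pr x ∈ (isAffineOpen_top X).fromSpec ⁻¹ᵁ X.basicOpen f ↔ pr x ∈ PrimeSpectrum.basicOpen f := by
    rw [h2]
    exact Iff.rfl
  have h4 : pr x ∈ (isAffineOpen_top X).fromSpec ⁻¹ᵁ X.basicOpen f ↔ x ∈ X.basicOpen f := by
    change (isAffineOpen_top X).fromSpec (pr x) ∈ X.basicOpen f ↔ _
    rw [h1]
  rw [← h4, h3]
  exact Iff.rfl

theorem exists_pr (p : PrimeSpectrum Γ(X, ⊤)) : ∃ x : X, pr x = p := by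
  refine ⟨(isAffineOpen_top X).fromSpec p, ?_⟩
  apply (isAffineOpen_top X).fromSpec.isOpenEmbedding.injective
  exact (isAffineOpen_top X).fromSpec_primeIdealOf ⟨_, trivial⟩

theorem not_mem_iSup_iff (x : X) (fs : List Γ(X, ⊤)) :
    x ∉ (⨆ i, KosAff.fa (RingHom.id Γ(X, ⊤)) fs i) ↔ Ideal.span {a | a ∈ fs} ≤ (pr x).asIdeal := by
  rw [Ideal.span_le, Opens.mem_iSup]
  constructor
  · intro h a ha
    obtain ⟨i, hi⟩ := List.get_of_mem ha
    by_contra hn
    refine h ⟨i, ?_⟩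
    change x ∈ X.basicOpen (fs.get i)
    rw [hi]
    exact (mem_basicOpen_iff x a).2 hn
  · rintro h ⟨i, hi⟩
    exact (mem_basicOpen_iff x (fs.get i)).1 hi (h (List.get_mem fs i))

omit [IsAffine X] in
theorem idealDepth_secA (M : X.Modules) (I : Ideal Γ(X, ⊤)) :
    LocCoh.idealDepth I ((KosAff.secA (RingHom.id Γ(X, ⊤)) M).obj (op ⊤)) = LocCoh.idealDepth I Γ(M, ⊤) := by
  have h := Groth.Agent.Ega4dB.DepthOpen.idealDepth_congr_semilinear (RingEquiv.refl Γ(X, ⊤))
    (KosAff.toFA (RingHom.id Γ(X, ⊤)) M ⊤) (fun r m => by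
      rw [KosAff.toFA_smul, Groth.Agent.Ega1.QCohLoc.resO_rfl]
      rfl) I
  rw [h]
  congr 1
  exact Ideal.map_id I

theorem finite_secA (M : X.Modules) (hM : Coh.IsCoh M) :
    Module.Finite Γ(X, ⊤) ((KosAff.secA (RingHom.id Γ(X, ⊤)) M).obj (op ⊤)) := by
  have h := Groth.Agent.Divis.StalkMod.finite_sections hM (isAffineOpen_top X)
  refine Module.Finite.of_surjective (M := Γ(M, ⊤))
    ({ toFun := (KosAff.toFA (RingHom.id Γ(X, ⊤)) M ⊤).symm
       map_add' := fun x y => map_add _ _ _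
       map_smul' := fun r x => ?_ } : Γ(M, ⊤) →ₗ[Γ(X, ⊤)] _) (KosAff.toFA (RingHom.id Γ(X, ⊤)) M ⊤).symm.surjective
  apply (KosAff.toFA (RingHom.id Γ(X, ⊤)) M ⊤).injective
  rw [AddEquiv.apply_symm_apply, KosAff.toFA_smul, Groth.Agent.Ega1.QCohLoc.resO_rfl]
  simp

theorem depth_stalk (M : X.Modules) (hM : Coh.IsCoh M) (x : X) :
    LocCoh.depth (X.presheaf.stalk x) (M.presheaf.stalk x) =
      LocCoh.depth (Localization.AtPrime (pr x).asIdeal) (LocalizedModule (pr x).asIdeal.primeCompl Γ(M, ⊤)) := by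
  refine Groth.Agent.Divis.StalkMod.stalk_elim M hM.1 (isAffineOpen_top X) x trivial ?_
  intro _ _ _ _ l _ _ _
  exact Groth.Agent.Ega4dB.DepthOpen.depth_eq_of_isLocalizedModule (pr x).asIdeal Γ(M, ⊤) (X.presheaf.stalk x) l

/-- **Depth and cohomology with supports on an affine Noetherian scheme.** -/
theorem main [IsNoetherianRing Γ(X, ⊤)] (M : X.Modules) (hM : Coh.IsCoh M) (U : X.Opens)
    (hU : IsCompact (U : Set X)) (n : ℕ) :
    (∀ i : ℕ, i < n → Subsingleton (LocCohZ.HZM X M i U)) ↔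
      ∀ x : X, x ∉ U → (n : ℕ∞) ≤ LocCoh.depth (X.presheaf.stalk x) (M.presheaf.stalk x) := by
  obtain ⟨fs, rfl⟩ := LCN.exists_list U hU
  have : Coh.IsQCoh M := hM.1
  have hf := finite_secA M hM
  have hf2 := Groth.Agent.Divis.StalkMod.finite_sections hM (isAffineOpen_top X)
  have h1 : (∀ i : ℕ, i < n → Subsingleton (LocCohZ.HZM X M i (⨆ i, KosAff.fa (RingHom.id Γ(X, ⊤)) fs i))) ↔
      ∀ i : ℕ, i < n → Subsingleton (LocCoh.H (Ideal.span {a | a ∈ fs}) i
        ((KosAff.secA (RingHom.id Γ(X, ⊤)) M).obj (op ⊤))) := by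
    refine forall_congr' fun i => imp_congr_right fun _ => ?_
    obtain ⟨e⟩ := LCN.nonempty_HZM_H M fs i
    exact e.toEquiv.subsingleton_congr
  rw [h1, le_idealDepth_iff_H, idealDepth_secA, K966.DepthLocal.le_idealDepth_iff_forall]
  constructor
  · intro h x hx
    rw [depth_stalk M hM x]
    exact h (pr x).asIdeal ((not_mem_iSup_iff x fs).1 hx)
  · intro h p hp hle
    obtain ⟨x, hx⟩ := exists_pr (⟨p, hp⟩ : PrimeSpectrum Γ(X, ⊤))
    have h2 : (pr x).asIdeal = p := congrArg PrimeSpectrum.asIdeal hx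
    subst h2
    have h3 := h x ((not_mem_iSup_iff x fs).2 hle)
    rwa [depth_stalk M hM x] at h3

end

end K288.DepthAff
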