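import Groth.Agent.Ega3A.EELow

/-!
# The extended Čech complex only depends on the underlying groups; functoriality of `koszulHLim`
-/

set_option autoImplicit false
universe u v w

open CategoryTheory Opposite CohIII Groth.Agent.Ega3A.ExtCech Groth.Agent.Ega3A.CechLink
  Groth.Agent.Ega3A.Koszul

namespace K288.EECongr

section

variable {A B : Type u} [CommRing A] [CommRing B] {P : Type w} [CompleteLattice P] {r : ℕ} (U : Fin r → P)
  (F : Pᵒᵖ ⥤ ModuleCat.{v} A) (G : Pᵒᵖ ⥤ ModuleCat.{v} B)
  (e : ∀ V : P, F.obj (op V) ≃+ G.obj (op V))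

/-- The comparison on cochains. -/
def eX (m : ℤ) : EX U F m ≃+ EX U G m where
  toFun s t := e _ (s t)
  invFun s t := (e _).symm (s t)
  left_inv s := funext fun t => (e _).symm_apply_apply _
  right_inv s := funext fun t => (e _).apply_symm_apply _
  map_add' s s' := funext fun t => map_add (e _) _ _

theorem eX_apply (m : ℤ) (s : EX U F m) (t : Tup r m) : eX U F G e m s t = e _ (s t) := rfl

variable (he : ∀ (V W : P) (h : V ≤ W) (x : F.obj (op W)), e V (res F h x) = res G h (e W x))

include he in
theorem eX_d {m m' : ℤ} (h : m + 1 = m') (s : EX U F m) :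
    eX U F G e m' (d U F h s) = d U G h (eX U F G e m s) := by
  funext t
  obtain ⟨_ | q, i, hq⟩ := t
  · rw [d_zero, eX_apply, d_zero, map_zero]
  · rw [d_succ, eX_apply, d_succ, map_sum]
    refine Finset.sum_congr rfl fun j _ => ?_
    rw [map_zsmul, he]
    rfl

include he in
theorem nonempty_homology (n : ℤ) : Nonempty ((EE U F).homology n ≃+ (EE U G).homology n) := by
  obtain ⟨π, h1, h2⟩ := EE_homology U F n (n + r - 1) (n + r) (n + r + 1) rfl (by ring) rfl
  obtain ⟨π', h1', h2'⟩ := EE_homology U G n (n + r - 1) (n + r) (n + r + 1) rfl (by ring) rfl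
  exact nonempty_addEquiv _ _ _ _ (eX U F G e _) (eX U F G e _) (eX U F G e _)
    (fun x => eX_d U F G e he _ x) (fun x => eX_d U F G e he _ x) π h1 h2 π' h1' h2'

end

section

variable {A : Type u} [CommRing A]

/-- The isomorphism of Koszul homology groups induced by an isomorphism of modules. -/
noncomputable def homIso {M N : ModuleCat.{u} A} (g : M ≅ N) (fs : List A) (q : ℤ) :
    (koszulCx M fs).homology q ≅ (koszulCx N fs).homology q where
  hom := HomologicalComplex.homologyMap (kMap g.hom fs) q
  inv := HomologicalComplex.homologyMap (kMap g.inv fs) q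
  hom_inv_id := by
    rw [← HomologicalComplex.homologyMap_comp, ← kMap_comp, g.hom_inv_id, kMap_id,
      HomologicalComplex.homologyMap_id]
  inv_hom_id := by
    rw [← HomologicalComplex.homologyMap_comp, ← kMap_comp, g.inv_hom_id, kMap_id,
      HomologicalComplex.homologyMap_id]

/-- Invariance of `koszulHLim` under isomorphisms of modules. -/
noncomputable def hlimCongr {M N : ModuleCat.{u} A} (g : M ≅ N) (fs : List A) (p : ℕ) :
    koszulHLim fs M p ≃ₗ[A] koszulHLim fs N p :=
  Module.DirectLimit.congr (fun n => (homIso g (fs.map (· ^ n)) ((p : ℤ) - fs.length)).toLinearEquiv)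
    (fun n m h => by
      have h1 := congrArg (fun t => HomologicalComplex.homologyMap t ((p : ℤ) - fs.length))
        (koszulTrans_kMap g.hom n m h fs)
      simp only [HomologicalComplex.homologyMap_comp] at h1
      ext x
      exact congr(($h1).hom x))

end

end K288.EECongr
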