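import Mathlib.Algebra.Homology.DerivedCategory.Ext.ExactSequences

/-!
# The Mayer-Vietoris sequence of `Ext` groups of a short exact sequence `A → B₁ ⊞ B₂ → C`
with maps `(a, -b)` and `(c, d)`.
-/

set_option autoImplicit false
open CategoryTheory CategoryTheory.Limits Abelian

namespace K288.ExtMV

universe w v u

variable {T : Type u} [Category.{v} T] [Abelian T] [HasExt.{w} T]
  {A B₁ B₂ C : T} (a : A ⟶ B₁) (b : A ⟶ B₂) (c : B₁ ⟶ C) (d : B₂ ⟶ C)
  (w : biprod.lift a (-b) ≫ biprod.desc c d = 0)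
  (hS : (ShortComplex.mk _ _ w).ShortExact) (F : T)

/-- The element of `Ext(B₁ ⊞ B₂, F)` with given components. -/
noncomputable def pair {i : ℕ} (y : Ext B₁ F i × Ext B₂ F i) : Ext (B₁ ⊞ B₂) F i :=
  (Ext.mk₀ biprod.fst).comp y.1 (zero_add i) + (Ext.mk₀ biprod.snd).comp y.2 (zero_add i)

theorem inl_pair {i : ℕ} (y : Ext B₁ F i × Ext B₂ F i) :
    (Ext.mk₀ (biprod.inl : B₁ ⟶ B₁ ⊞ B₂)).comp (pair F y) (zero_add i) = y.1 := by
  rw [pair, Ext.comp_add, Ext.mk₀_comp_mk₀_assoc, Ext.mk₀_comp_mk₀_assoc, biprod.inl_fst,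
    biprod.inl_snd, Ext.mk₀_id_comp, Ext.mk₀_zero, Ext.zero_comp, add_zero]

theorem inr_pair {i : ℕ} (y : Ext B₁ F i × Ext B₂ F i) :
    (Ext.mk₀ (biprod.inr : B₂ ⟶ B₁ ⊞ B₂)).comp (pair F y) (zero_add i) = y.2 := by
  rw [pair, Ext.comp_add, Ext.mk₀_comp_mk₀_assoc, Ext.mk₀_comp_mk₀_assoc, biprod.inr_fst,
    biprod.inr_snd, Ext.mk₀_id_comp, Ext.mk₀_zero, Ext.zero_comp, zero_add]

theorem exists_pair {i : ℕ} (z : Ext (B₁ ⊞ B₂) F i) : ∃ y, pair F y = z := by
  refine ⟨((Ext.mk₀ biprod.inl).comp z (zero_add i), (Ext.mk₀ biprod.inr).comp z (zero_add i)), ?_⟩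
  apply Ext.biprod_ext
  · rw [inl_pair]
  · rw [inr_pair]

theorem f_pair {i : ℕ} (y : Ext B₁ F i × Ext B₂ F i) :
    (Ext.mk₀ (biprod.lift a (-b))).comp (pair F y) (zero_add i) =
      (Ext.mk₀ a).comp y.1 (zero_add i) - (Ext.mk₀ b).comp y.2 (zero_add i) := by
  rw [pair, Ext.comp_add, Ext.mk₀_comp_mk₀_assoc, Ext.mk₀_comp_mk₀_assoc, biprod.lift_fst,
    biprod.lift_snd, Ext.mk₀_neg, Ext.neg_comp, sub_eq_add_neg]

theorem pair_g {i : ℕ} (x : Ext C F i) :
    pair F ((Ext.mk₀ c).comp x (zero_add i), (Ext.mk₀ d).comp x (zero_add i)) =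
      (Ext.mk₀ (biprod.desc c d)).comp x (zero_add i) := by
  apply Ext.biprod_ext
  · rw [inl_pair, Ext.mk₀_comp_mk₀_assoc, biprod.inl_desc]
  · rw [inr_pair, Ext.mk₀_comp_mk₀_assoc, biprod.inr_desc]

theorem pair_injective {i : ℕ} : Function.Injective (pair (B₁ := B₁) (B₂ := B₂) F (i := i)) := by
  intro y y' h
  refine Prod.ext ?_ ?_
  · rw [← inl_pair F y, h, inl_pair]
  · rw [← inr_pair F y, h, inr_pair]

include hS

theorem injective_zero :
    Function.Injective (fun x : Ext C F 0 =>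
      ((Ext.mk₀ c).comp x (zero_add 0), (Ext.mk₀ d).comp x (zero_add 0))) := by
  intro x x' h
  have := hS.epi_g
  have : Epi (biprod.desc c d) := this
  apply Ext.precomp_mk₀_injective_of_epi F (biprod.desc c d)
  change (Ext.mk₀ (biprod.desc c d)).comp x (zero_add 0) = (Ext.mk₀ (biprod.desc c d)).comp x' (zero_add 0)
  rw [← pair_g, ← pair_g]
  exact congrArg (pair F) h

theorem exact_mid (i : ℕ) (y : Ext B₁ F i × Ext B₂ F i) :
    (Ext.mk₀ a).comp y.1 (zero_add i) - (Ext.mk₀ b).comp y.2 (zero_add i) = 0 ↔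
      ∃ x : Ext C F i, (Ext.mk₀ c).comp x (zero_add i) = y.1 ∧ (Ext.mk₀ d).comp x (zero_add i) = y.2 := by
  rw [← f_pair]
  constructor
  · intro h
    obtain ⟨x, hx⟩ := Ext.contravariant_sequence_exact₂ hS F (pair F y) h
    have h2 := (pair_g c d F x).trans hx
    have h3 := pair_injective F h2
    exact ⟨x, congrArg Prod.fst h3, congrArg Prod.snd h3⟩
  · rintro ⟨x, h1, h2⟩
    have : pair F y = (Ext.mk₀ (biprod.desc c d)).comp x (zero_add i) := by
      rw [← pair_g, h1, h2]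
    rw [this, Ext.mk₀_comp_mk₀_assoc, w, Ext.mk₀_zero, Ext.zero_comp]

theorem exact_delta (i : ℕ) (x : Ext A F i) :
    hS.extClass.comp x (add_comm 1 i) = 0 ↔
      ∃ y : Ext B₁ F i × Ext B₂ F i,
        (Ext.mk₀ a).comp y.1 (zero_add i) - (Ext.mk₀ b).comp y.2 (zero_add i) = x := by
  constructor
  · intro h
    obtain ⟨z, hz⟩ := Ext.contravariant_sequence_exact₁ hS F x (add_comm 1 i) h
    obtain ⟨y, rfl⟩ := exists_pair F z
    exact ⟨y, (f_pair a b F y).symm.trans hz⟩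
  · rintro ⟨y, rfl⟩
    rw [← f_pair]
    exact hS.extClass_comp_assoc _

theorem exact_right (i : ℕ) (x : Ext C F (i + 1)) :
    ((Ext.mk₀ c).comp x (zero_add (i + 1)) = 0 ∧ (Ext.mk₀ d).comp x (zero_add (i + 1)) = 0) ↔
      ∃ w : Ext A F i, hS.extClass.comp w (add_comm 1 i) = x := by
  constructor
  · rintro ⟨h1, h2⟩
    refine Ext.contravariant_sequence_exact₃ hS F x ?_ (add_comm 1 i)
    refine (pair_g c d F x).symm.trans ?_
    rw [h1, h2, pair, Ext.comp_zero, Ext.comp_zero, add_zero]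
  · rintro ⟨w, rfl⟩
    have h : (Ext.mk₀ (biprod.desc c d)).comp (hS.extClass.comp w (add_comm 1 i)) (zero_add (i + 1)) = 0 :=
      hS.comp_extClass_assoc _ _
    generalize hS.extClass.comp w (add_comm 1 i) = x at h
    have h2 := (pair_g c d F x).trans h
    have h3 : pair F ((Ext.mk₀ c).comp x (zero_add (i + 1)), (Ext.mk₀ d).comp x (zero_add (i + 1))) =
        pair F (i := i + 1) (0, 0) := by
      rw [h2, pair, Ext.comp_zero, Ext.comp_zero, add_zero]
    have h4 := pair_injective F h3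
    exact ⟨congrArg Prod.fst h4, congrArg Prod.snd h4⟩

end K288.ExtMV
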