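import Mathlib.CategoryTheory.Abelian.Injective.Basic
import Mathlib.Algebra.Homology.ShortComplex.ShortExact
import Mathlib.CategoryTheory.Abelian.Exact

/-!
# Testing exactness on injective objects

In an abelian category with enough injectives a short complex `A ⟶ B ⟶ C` is short exact if (and only if)
`0 → Hom(C, I) → Hom(B, I) → Hom(A, I) → 0` is exact for all injective objects `I`.
-/

set_option autoImplicit false

open CategoryTheory CategoryTheory.Limits

namespace K288.InjTest

universe v u

variable {C : Type u} [Category.{v} C] [Abelian C] [EnoughInjectives C]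

omit [Abelian C] in
theorem mono_of_test {A B : C} (f : A ⟶ B)
    (h : ∀ (I : C) [Injective I] (a : A ⟶ I), ∃ b : B ⟶ I, f ≫ b = a) : Mono f := by
  obtain ⟨b, hb⟩ := h (Injective.under A) (Injective.ι A)
  have : Mono (f ≫ b) := by rw [hb]; infer_instance
  exact mono_of_mono f b

theorem epi_of_test {B D : C} (g : B ⟶ D)
    (h : ∀ (I : C) [Injective I] (c : D ⟶ I), g ≫ c = 0 → c = 0) : Epi g := by
  refine Preadditive.epi_of_cancel_zero g ?_
  intro Z c hc
  have := h (Injective.under Z) (c ≫ Injective.ι Z) (by rw [← Category.assoc, hc, zero_comp])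
  exact zero_of_comp_mono _ this

theorem exact_of_test (S : ShortComplex C)
    (h : ∀ (I : C) [Injective I] (b : S.X₂ ⟶ I), S.f ≫ b = 0 → ∃ c : S.X₃ ⟶ I, S.g ≫ c = b) :
    S.Exact := by
  rw [ShortComplex.exact_iff_kernel_ι_comp_cokernel_π_zero]
  obtain ⟨c, hc⟩ := h (Injective.under (cokernel S.f)) (cokernel.π S.f ≫ Injective.ι _)
    (by rw [← Category.assoc, cokernel.condition, zero_comp])
  refine zero_of_comp_mono (Injective.ι (cokernel S.f)) ?_
  rw [Category.assoc, ← hc, ← Category.assoc, kernel.condition, zero_comp]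

theorem shortExact_of_test (S : ShortComplex C)
    (h1 : ∀ (I : C) [Injective I] (a : S.X₁ ⟶ I), ∃ b : S.X₂ ⟶ I, S.f ≫ b = a)
    (h2 : ∀ (I : C) [Injective I] (b : S.X₂ ⟶ I), S.f ≫ b = 0 → ∃ c : S.X₃ ⟶ I, S.g ≫ c = b)
    (h3 : ∀ (I : C) [Injective I] (c : S.X₃ ⟶ I), S.g ≫ c = 0 → c = 0) : S.ShortExact where
  exact := exact_of_test S h2
  mono_f := mono_of_test S.f h1
  epi_g := epi_of_test S.g h3

end K288.InjTest
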