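import Groth.Agent.LocCohZ.K288.EECongr
import Groth.Agent.S2439

/-!
# `koszulHLim` over an arbitrary base ring `A → Γ(X, O_X)`, and cohomology of the union of the basic opens
-/

set_option autoImplicit false
universe u

open CategoryTheory Opposite CohIII AlgebraicGeometry Groth.Agent.Ega3A.ExtCech Groth.Agent.Ega3A.CechLink
  Groth.Agent.Ega3A.Koszul Groth.Agent.Ega3A.SecFun

namespace K288.KosAff

/-- Vanishing of the higher cohomology over affine opens. -/
theorem subsingleton_HU {X : Scheme.{u}} (M : X.Modules) [Coh.IsQCoh M] (V : X.Opens) (hV : IsAffineOpen V)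
    (q : ℕ) : Subsingleton (CohTop.HU (X := X.toTopCat) (Coh.toAb M) (q + 1) V) := by
  obtain ⟨e⟩ := Groth.Agent.S0463.result (X := X.toTopCat) (Coh.toAb M) V (q + 1)
  have hV' : IsAffine V := hV
  have := Groth.Agent.S0007.result (V : Scheme.{u}) (M.restrict V.ι) (q + 1) (Nat.succ_pos q)
  exact Equiv.subsingleton (β := Coh.HHon X M V (q + 1)) e.toEquiv

variable {A : Type u} [CommRing A] {X : Scheme.{u}} (φ : A →+* Γ(X, ⊤)) (M : X.Modules)

/-- Sections of `M` as a functor to `A`-modules. -/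
noncomputable def secA : (X.Opens)ᵒᵖ ⥤ ModuleCat.{u} A := secFun M ⋙ ModuleCat.restrictScalars φ

/-- Underlying groups. -/
noncomputable def toFA (V : X.Opens) : (secA φ M).obj (op V) ≃+ Γ(M, V) := AddEquiv.refl _

theorem toFA_smul (V : X.Opens) (a : A) (x : (secA φ M).obj (op V)) :
    toFA φ M V (a • x) = (Groth.Agent.Ega1.QCohLoc.resO le_top (φ a) : Γ(X, V)) • toFA φ M V x := rfl

theorem toFA_res {V W : X.Opens} (h : V ≤ W) (x : (secA φ M).obj (op W)) :
    toFA φ M V (res (secA φ M) h x) = Groth.Agent.Ega1.QCohLoc.res M h (toFA φ M W x) := rfl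

/-- The basic opens. -/
abbrev D (f : A) : X.Opens := X.basicOpen (φ f)

theorem goodA : Good (D φ) Set.univ (secA φ M) := fun f _ W hW => good M (φ f) trivial W hW

theorem isLocA (hM : Coh.IsQCoh M) [CompactSpace X] [QuasiSeparatedSpace X] :
    IsLoc (D φ) Set.univ (secA φ M) := by
  obtain ⟨𝒲, h1, h2, h3⟩ := isLoc M hM
  refine ⟨𝒲, h1, fun W hW f _ => h2 W hW (φ f) trivial, fun W hW f _ => ⟨fun x => ?_, fun y hy => ?_⟩⟩
  · obtain ⟨k, y, hy⟩ := (h3 W hW (φ f) trivial).1 x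
    refine ⟨k, y, ?_⟩
    refine hy.trans ?_
    rw [← map_pow]
    rfl
  · obtain ⟨k, hk⟩ := (h3 W hW (φ f) trivial).2 y hy
    refine ⟨k, ?_⟩
    rw [← map_pow] at hk
    exact hk

variable [CompactSpace X] [X.IsSeparated] (fs : List A) (N : ModuleCat.{u} A)
  (eN : N ≅ (secA φ M).obj (op ⊤)) [Coh.IsQCoh M]

/-- The family of basic opens. -/
abbrev fa : Fin fs.length → X.Opens := fun i => X.basicOpen (φ (fs.get i))

include eN in
theorem nonempty_EE (p : ℕ) : Nonempty (koszulHLim fs N p ≃+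
    (EE (fa φ fs) (secA φ M)).homology ((p : ℤ) - fs.length)) := by
  have : QuasiSeparatedSpace X := (quasiSeparatedSpace_iff_quasiSeparated X).2 inferInstance
  exact ⟨((K288.EECongr.hlimCongr eN fs p).trans (koszulHLimEquivEE (D := D φ) (S := Set.univ) fs
    (fun _ _ => trivial) (secA φ M) (goodA φ M) (isLocA φ M inferInstance) p)).toAddEquiv⟩

omit [CompactSpace X] [X.IsSeparated] [Coh.IsQCoh M] in
theorem nonempty_sec (n : ℤ) : Nonempty ((EE (fa φ fs) (secA φ M)).homology n ≃+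
    (EE (fa φ fs) (secFun M)).homology n) :=
  K288.EECongr.nonempty_homology (fa φ fs) (secA φ M) (secFun M) (fun _ => AddEquiv.refl _)
    (fun _ _ _ _ => rfl) n

include eN in
/-- Degree `0`. -/
theorem hlim_zero : Nonempty (koszulHLim fs N 0 ≃+
    (Groth.Agent.Ega1.QCohLoc.res M (le_top : (⨆ i, fa φ fs i) ≤ ⊤)).ker) := by
  obtain ⟨e1⟩ := nonempty_EE φ M fs N eN 0
  obtain ⟨e2⟩ := nonempty_sec φ M fs (((0 : ℕ) : ℤ) - fs.length)
  obtain ⟨e3⟩ := Groth.Agent.Ega3A.EELow.homology_zero M (fa φ fs) (((0 : ℕ) : ℤ) - fs.length)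
    (by push_cast; ring)
  exact ⟨e1.trans (e2.trans e3)⟩

include eN in
/-- Degree `1`. -/
theorem hlim_one : Nonempty (koszulHLim fs N 1 ≃+
    (Γ(M, ⨆ i, fa φ fs i) ⧸ (Groth.Agent.Ega1.QCohLoc.res M (le_top : (⨆ i, fa φ fs i) ≤ ⊤)).range)) := by
  obtain ⟨e1⟩ := nonempty_EE φ M fs N eN 1
  obtain ⟨e2⟩ := nonempty_sec φ M fs (((1 : ℕ) : ℤ) - fs.length)
  obtain ⟨e3⟩ := Groth.Agent.Ega3A.EELow.homology_one M (fa φ fs) (((1 : ℕ) : ℤ) - fs.length)
    (by push_cast; ring)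
  exact ⟨e1.trans (e2.trans e3)⟩

include eN in
/-- Degrees `≥ 2`. -/
theorem hlim_cech (p : ℕ) : Nonempty (koszulHLim fs N (p + 1 + 1) ≃+
    CohB1.cechHTop (fun i : ULift.{u} (Fin fs.length) => fa φ fs i.down) M.presheaf (p + 1)) := by
  obtain ⟨e1⟩ := nonempty_EE φ M fs N eN (p + 1 + 1)
  obtain ⟨e2⟩ := EE_cech (secA φ M) M.presheaf
    (toFA φ M) (fun V W h x => toFA_res φ M h x)
    (fa φ fs) p (((p + 1 + 1 : ℕ) : ℤ) - fs.length)
    (by push_cast; ring)
  exact ⟨e1.trans e2⟩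

include eN in
/-- Degrees `≥ 2`. -/
theorem hlim_HU (haff : ∀ i, IsAffineOpen (fa φ fs i)) (p : ℕ) :
    Nonempty (koszulHLim fs N (p + 1 + 1) ≃+
      CohTop.HU (X := X.toTopCat) (Coh.toAb M) (p + 1) (⨆ i, fa φ fs i)) := by
  obtain ⟨e1⟩ := hlim_cech φ M fs N eN p
  have hsup : (⨆ i : ULift.{u} (Fin fs.length), fa φ fs i.down) =
      ⨆ i : Fin fs.length, fa φ fs i :=
    le_antisymm (iSup_le fun i => le_iSup (fun i => fa φ fs i) i.down)
      (iSup_le fun i => le_iSup (fun i : ULift.{u} (Fin fs.length) => fa φ fs i.down) ⟨i⟩)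
  obtain ⟨e2⟩ := Groth.Agent.S0464.result (X := X.toTopCat) (Coh.toAb M)
    (fun i : ULift.{u} (Fin fs.length) => fa φ fs i.down) (by
      intro p a q
      exact subsingleton_HU M _ (Groth.Agent.S2439.isAffineOpen_iInf_basicOpen X
        (fun i : ULift.{u} (Fin fs.length) => φ (fs.get i.down)) (fun i => haff i.down) p a) q) (p + 1)
  rw [hsup] at e2
  exact ⟨e1.trans e2⟩

end K288.KosAff
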