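import Groth.Agent.LocCohZ.K288.KosSpec
import Groth.Agent.LocCohZ.K288.AffZ
import Groth.Agent.Localalg.HVLC

/-!
# `H^i_Z(X, M) ≅ H^i_I(Γ(X, M))` on an affine Noetherian scheme
-/

set_option autoImplicit false
universe u

open CategoryTheory Opposite AlgebraicGeometry TopologicalSpace

namespace K288.LCN

/-- Over a Noetherian ring: Koszul limit and local cohomology (additively). -/
theorem nonempty_hlim_H (R : Type u) [CommRing R] [IsNoetherianRing R] (fs : List R) (N : ModuleCat.{u} R) (i : ℕ) :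
    Nonempty (CohIII.koszulHLim fs N i ≃+ LocCoh.H (Ideal.span {a | a ∈ fs}) i N) := by
  obtain ⟨e1⟩ := KosSpec.main R N fs i
  obtain ⟨e2, -⟩ := Groth.Agent.Localalg.HVLC.exists_ezEquiv (A := R) (Ideal.span {a | a ∈ fs}) i
  exact ⟨e1.trans (e2 N)⟩

section

variable {X : Scheme.{u}} [IsAffine X]

/-- Every quasi-compact open subset of an affine scheme is a finite union of basic opens. -/
theorem exists_list (U : X.Opens) (hU : IsCompact (U : Set X)) :
    ∃ fs : List Γ(X, ⊤), (⨆ i, KosAff.fa (RingHom.id Γ(X, ⊤)) fs i) = U := by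
  classical
  obtain ⟨t, ht⟩ := hU.elim_finite_subcover
    (fun f : {f : Γ(X, ⊤) // X.basicOpen f ≤ U} => (X.basicOpen f.1 : Set X))
    (fun f => (X.basicOpen f.1).isOpen) (by
      intro x hx
      obtain ⟨_, ⟨_, ⟨f, rfl⟩, rfl⟩, hxf, hf⟩ :=
        (isBasis_basicOpen X).exists_subset_of_mem_open hx U.isOpen
      exact Set.mem_iUnion.2 ⟨⟨f, hf⟩, hxf⟩)
  refine ⟨(t.image (fun f => f.1)).toList, le_antisymm ?_ ?_⟩
  · refine iSup_le fun i => ?_
    have h1 : (t.image (fun f => f.1)).toList.get i ∈ t.image (fun f => f.1) :=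
      Finset.mem_toList.1 (List.get_mem _ i)
    obtain ⟨f, -, hf⟩ := Finset.mem_image.1 h1
    change X.basicOpen ((t.image (fun f => f.1)).toList.get i) ≤ U
    rw [← hf]
    exact f.2
  · intro x hx
    obtain ⟨f, hf, hxf⟩ := Set.mem_iUnion₂.1 (ht hx)
    have h1 : f.1 ∈ (t.image (fun f => f.1)).toList :=
      Finset.mem_toList.2 (Finset.mem_image.2 ⟨f, hf, rfl⟩)
    obtain ⟨i, hi⟩ := List.get_of_mem h1
    refine Opens.mem_iSup.2 ⟨i, ?_⟩
    change x ∈ X.basicOpen ((t.image (fun f => f.1)).toList.get i)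
    rw [hi]
    exact hxf

/-- On an affine Noetherian scheme. -/
theorem nonempty_HZM_H [IsNoetherianRing Γ(X, ⊤)] (M : X.Modules) [Coh.IsQCoh M] (fs : List Γ(X, ⊤)) (i : ℕ) :
    Nonempty (LocCohZ.HZM X M i (⨆ i, KosAff.fa (RingHom.id Γ(X, ⊤)) fs i) ≃+
      LocCoh.H (Ideal.span {a | a ∈ fs}) i ((KosAff.secA (RingHom.id Γ(X, ⊤)) M).obj (op ⊤))) := by
  obtain ⟨e1⟩ := AffZ.main (RingHom.id Γ(X, ⊤)) M fs _ (Iso.refl _) i
  obtain ⟨e2⟩ := nonempty_hlim_H Γ(X, ⊤) fs ((KosAff.secA (RingHom.id Γ(X, ⊤)) M).obj (op ⊤)) i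
  exact ⟨e1.symm.trans e2⟩

end

end K288.LCN
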