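import Groth.Agent.LocCohZ.K288.ZqHom
import Groth.Agent.LocCohZ.K288.InjTest
import Groth.Agent.LocCohZ.K288.Sec

/-!
# The Mayer-Vietoris short exact sequence for supports

`0 → ℤ_X/ℤ_{U∩U'} → ℤ_X/ℤ_U ⊕ ℤ_X/ℤ_{U'} → ℤ_X/ℤ_{U∪U'} → 0` with maps `(a, -b)` and `c + d`.
-/

set_option autoImplicit false
universe u
open CategoryTheory CategoryTheory.Limits Opposite TopologicalSpace

namespace K288.MV

open K288.ZqHom K288.Sec

variable {X : TopCat.{u}} (U U' : Opens X)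

/-- `ℤ_X/ℤ_{U∩U'} → ℤ_X/ℤ_U`. -/
noncomputable abbrev a : LocCohZ.zq (le_top : U ⊓ U' ≤ ⊤) ⟶ LocCohZ.zq (le_top : U ≤ ⊤) :=
  LocCohZ.zqMap (le_top : U ≤ ⊤) (le_top : U ⊓ U' ≤ ⊤) inf_le_left le_rfl

/-- `ℤ_X/ℤ_{U∩U'} → ℤ_X/ℤ_{U'}`. -/
noncomputable abbrev b : LocCohZ.zq (le_top : U ⊓ U' ≤ ⊤) ⟶ LocCohZ.zq (le_top : U' ≤ ⊤) :=
  LocCohZ.zqMap (le_top : U' ≤ ⊤) (le_top : U ⊓ U' ≤ ⊤) inf_le_right le_rfl

/-- `ℤ_X/ℤ_U → ℤ_X/ℤ_{U∪U'}`. -/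
noncomputable abbrev c : LocCohZ.zq (le_top : U ≤ ⊤) ⟶ LocCohZ.zq (le_top : U ⊔ U' ≤ ⊤) :=
  LocCohZ.zqMap (le_top : U ⊔ U' ≤ ⊤) (le_top : U ≤ ⊤) le_sup_left le_rfl

/-- `ℤ_X/ℤ_{U'} → ℤ_X/ℤ_{U∪U'}`. -/
noncomputable abbrev d : LocCohZ.zq (le_top : U' ≤ ⊤) ⟶ LocCohZ.zq (le_top : U ⊔ U' ≤ ⊤) :=
  LocCohZ.zqMap (le_top : U ⊔ U' ≤ ⊤) (le_top : U' ≤ ⊤) le_sup_right le_rfl

theorem comm : a U U' ≫ c U U' = b U U' ≫ d U U' := by
  rw [a, b, c, d, zqMap_comp, zqMap_comp]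

/-- The Mayer-Vietoris sequence. -/
noncomputable def S : ShortComplex (CohTop.Ab X) :=
  ShortComplex.mk (biprod.lift (a U U') (-b U U')) (biprod.desc (c U U') (d U U')) (by
    rw [biprod.lift_desc, Preadditive.neg_comp, comm, add_neg_cancel])

theorem shortExact : (S U U').ShortExact := by
  refine InjTest.shortExact_of_test _ ?_ ?_ ?_
  · intro I _ (φ : LocCohZ.zq (le_top : U ⊓ U' ≤ ⊤) ⟶ I)
    have h0 : rs I (le_top : U ⊓ U' ≤ ⊤) (ev I (le_top : U ⊓ U' ≤ ⊤) φ) = 0 := res_ev I _ φ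
    set s := ev I (le_top : U ⊓ U' ≤ ⊤) φ with hs
    obtain ⟨t, ht1, ht2⟩ := exists_glue I (le_sup_left : U ≤ U ⊔ U') (le_sup_right : U' ≤ U ⊔ U') le_rfl
      0 (rs I (le_top : U' ≤ ⊤) s) (by rw [map_zero, rs_rs, h0])
    obtain ⟨s1, hs1⟩ := restrict_surjective_of_injective I (le_top : U ⊔ U' ≤ ⊤) t
    have hs1' : rs I (le_top : U ⊔ U' ≤ ⊤) s1 = t := hs1
    have e1 : rs I (le_top : U ≤ ⊤) s1 = 0 := by
      rw [← ht1, ← hs1', rs_rs]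
    have e2 : rs I (le_top : U' ≤ ⊤) (s1 - s) = 0 := by
      rw [map_sub, ← ht2, ← hs1', rs_rs, sub_self]
    obtain ⟨φ1, hφ1⟩ := exists_ev I (le_top : U ≤ ⊤) s1 e1
    obtain ⟨φ2, hφ2⟩ := exists_ev I (le_top : U' ≤ ⊤) (s1 - s) e2
    refine ⟨biprod.desc φ1 φ2, ?_⟩
    apply ev_injective
    change ev I _ (biprod.lift (a U U') (-b U U') ≫ biprod.desc φ1 φ2) = _
    rw [biprod.lift_desc, Preadditive.neg_comp, map_add, map_neg, ev_zqMap_comp, ev_zqMap_comp, hφ1, hφ2]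
    change rs I le_rfl s1 + -rs I le_rfl (s1 - s) = s
    rw [rs_self, rs_self]
    abel
  · intro I _ (φ : LocCohZ.zq (le_top : U ≤ ⊤) ⊞ LocCohZ.zq (le_top : U' ≤ ⊤) ⟶ I) hφ
    have hφ' : biprod.lift (a U U') (-b U U') ≫ φ = 0 := hφ
    obtain ⟨φ1, φ2, rfl⟩ : ∃ φ1 φ2, φ = biprod.desc φ1 φ2 :=
      ⟨biprod.inl ≫ φ, biprod.inr ≫ φ,
        biprod.hom_ext' _ _ (by rw [biprod.inl_desc]) (by rw [biprod.inr_desc])⟩
    rw [biprod.lift_desc, Preadditive.neg_comp] at hφ'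
    have h1 := congrArg (ev I (le_top : U ⊓ U' ≤ ⊤)) hφ'
    rw [map_add, map_neg, ev_zqMap_comp, ev_zqMap_comp, map_zero] at h1
    have h2 : rs I le_rfl (ev I _ φ1) + -rs I le_rfl (ev I _ φ2) = 0 := h1
    rw [rs_self, rs_self, ← sub_eq_add_neg, sub_eq_zero] at h2
    have e1 : rs I (le_top : U ≤ ⊤) (ev I (le_top : U ≤ ⊤) φ1) = 0 := res_ev I _ φ1
    have e2 : rs I (le_top : U' ≤ ⊤) (ev I (le_top : U' ≤ ⊤) φ2) = 0 := res_ev I _ φ2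
    obtain ⟨ψ, hψ⟩ := exists_ev I (le_top : U ⊔ U' ≤ ⊤) (ev I _ φ1) (by
      apply eq_of_sup I (le_sup_left : U ≤ U ⊔ U') (le_sup_right : U' ≤ U ⊔ U') le_rfl
      · rw [map_zero]
        exact (rs_rs I _ _ _).trans e1
      · rw [map_zero, h2]
        exact (rs_rs I _ _ _).trans e2)
    refine ⟨ψ, ?_⟩
    change biprod.desc (c U U') (d U U') ≫ ψ = _
    apply biprod.hom_ext'
    · rw [biprod.inl_desc_assoc, biprod.inl_desc]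
      apply ev_injective
      rw [ev_zqMap_comp, hψ]
      exact rs_self I _ _
    · rw [biprod.inr_desc_assoc, biprod.inr_desc]
      apply ev_injective
      rw [ev_zqMap_comp, hψ, h2]
      exact rs_self I _ _
  · intro I _ (ψ : LocCohZ.zq (le_top : U ⊔ U' ≤ ⊤) ⟶ I) hψ
    have hψ' : biprod.desc (c U U') (d U U') ≫ ψ = 0 := hψ
    have h1 : c U U' ≫ ψ = 0 := by
      rw [← biprod.inl_desc (c U U') (d U U'), Category.assoc, hψ', comp_zero]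
    have h2 := congrArg (ev I (le_top : U ≤ ⊤)) h1
    rw [ev_zqMap_comp, map_zero] at h2
    apply (ev_eq_zero_iff I _ _).1
    exact (rs_self I _ _).symm.trans h2

end K288.MV
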