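import Groth.Agent.LocCohZ.K287.LES

/-!
# Bijectivity of `H^0(V, F) → H^0(W, F)` and of `F(V) → F(W)`
-/

set_option autoImplicit false
universe u

open CategoryTheory Opposite TopologicalSpace

namespace K288.Res0

variable {X : TopCat.{u}} (F : CohTop.Ab X) {W V : Opens X} (h : W ≤ V)

theorem injective_iff : Function.Injective (CohTop.res F 0 h) ↔
    Function.Injective (F.obj.map (homOfLE h).op) := by
  have h1 := Groth.Agent.LocCohZ.K287.LES.forall_HZ_iff F h 0
  have h2 : Function.Injective (CohTop.res F 0 h) ↔ Subsingleton (LocCohZ.HZ F 0 h) := by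
    constructor
    · intro hi
      exact h1.2 ⟨fun i hi => absurd hi (Nat.not_lt_zero i), hi⟩ 0 le_rfl
    · intro hs
      exact (h1.1 fun i hi => by
        obtain rfl : i = 0 := Nat.le_zero.1 hi
        exact hs).2
  rw [h2, (LocCohZ.sect0Equiv F h).toEquiv.subsingleton_congr]
  constructor
  · intro hs
    exact (injective_iff_map_eq_zero (F.obj.map (homOfLE h).op).hom).2 fun a ha =>
      congrArg Subtype.val (Subsingleton.elim (⟨a, ha⟩ : LocCohZ.sectZ F h) 0)
  · intro hi
    refine ⟨fun a b => Subtype.ext ?_⟩
    refine hi ?_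
    have ha : (F.obj.map (homOfLE h).op).hom a.1 = 0 := a.2
    have hb : (F.obj.map (homOfLE h).op).hom b.1 = 0 := b.2
    exact ha.trans hb.symm

theorem surjective_iff : Function.Surjective (CohTop.res F 0 h) ↔
    Function.Surjective (F.obj.map (homOfLE h).op) :=
  ⟨Groth.Agent.LocCohZ.K287.LES.surjective_map F h, Groth.Agent.LocCohZ.K287.LES.surjective_res F h⟩

theorem bijective_iff : Function.Bijective (CohTop.res F 0 h) ↔
    Function.Bijective (F.obj.map (homOfLE h).op) :=
  and_congr (injective_iff F h) (surjective_iff F h)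

end K288.Res0
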