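import Groth.Agent.LocCohZ.K287.SplitInj

/-!
# The first non-vanishing derived functor of a composition

If `G` preserves injectives, `RⁱG(X) = 0` for `i < n` and `H` is left exact, then `Rⁿ(G ⋙ H)(X) ≅ H(RⁿG(X))`.
-/

set_option autoImplicit false

open CategoryTheory CategoryTheory.Limits

namespace K288.SplitTop

section

variable {B : Type*} [Category* B] [Abelian B] {D : Type*} [Category* D] [Abelian D]

/-- The map whose kernel is the homology. -/
noncomputable abbrev test (S : ShortComplex B) (t : S.X₂ ⟶ S.X₁) : kernel S.g ⟶ S.X₂ :=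
  kernel.ι S.g ≫ t ≫ S.f

/-- The projection of the cycles to the homology. -/
noncomputable def proj (S : ShortComplex B) (t : S.X₂ ⟶ S.X₁) (ht : S.f ≫ t ≫ S.f = S.f) :
    kernel S.g ⟶ kernel (test S t) :=
  kernel.lift _ (kernel.lift S.g (kernel.ι S.g ≫ (𝟙 _ - t ≫ S.f)) (by
    rw [Category.assoc, Preadditive.sub_comp, Category.assoc, S.zero, comp_zero, sub_zero, Category.id_comp,
      kernel.condition])) (by
    rw [kernel.lift_ι_assoc, Category.assoc, Preadditive.sub_comp, Category.assoc, ht, Category.id_comp, sub_self,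
      comp_zero])

theorem proj_ι (S : ShortComplex B) (t : S.X₂ ⟶ S.X₁) (ht : S.f ≫ t ≫ S.f = S.f) :
    proj S t ht ≫ kernel.ι (test S t) ≫ kernel.ι S.g = kernel.ι S.g ≫ (𝟙 _ - t ≫ S.f) := by
  rw [proj, kernel.lift_ι_assoc, kernel.lift_ι]

theorem ι_proj (S : ShortComplex B) (t : S.X₂ ⟶ S.X₁) (ht : S.f ≫ t ≫ S.f = S.f) :
    kernel.ι (test S t) ≫ proj S t ht = 𝟙 _ := by
  apply (cancel_mono (kernel.ι (test S t))).1
  apply (cancel_mono (kernel.ι S.g)).1
  rw [Category.assoc, Category.assoc, proj_ι, Category.id_comp, Preadditive.comp_sub, Preadditive.comp_sub,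
    Category.comp_id, kernel.condition (test S t), sub_zero]

instance (S : ShortComplex B) (t : S.X₂ ⟶ S.X₁) (ht : S.f ≫ t ≫ S.f = S.f) : Epi (proj S t ht) :=
  (SplitEpi.mk (kernel.ι (test S t)) (ι_proj S t ht)).epi

/-- The homology of a short complex `X₁ → X₂ → X₃` with `t : X₂ ⟶ X₁`, `f t f = f`. -/
noncomputable def lhd (S : ShortComplex B) (t : S.X₂ ⟶ S.X₁) (ht : S.f ≫ t ≫ S.f = S.f) : S.LeftHomologyData where
  K := kernel S.g
  H := kernel (test S t)
  i := kernel.ι S.g
  π := proj S t ht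
  wi := kernel.condition _
  hi := kernelIsKernel _
  wπ := by
    apply (cancel_mono (kernel.ι (test S t))).1
    apply (cancel_mono (kernel.ι S.g)).1
    rw [Category.assoc, Category.assoc, proj_ι, zero_comp, zero_comp, ← Category.assoc]
    have h1 : (kernelIsKernel S.g).lift (KernelFork.ofι S.f S.zero) ≫ kernel.ι S.g = S.f :=
      (kernelIsKernel S.g).fac _ WalkingParallelPair.zero
    rw [h1, Preadditive.comp_sub, Category.comp_id, ht, sub_self]
  hπ := by
    refine CokernelCofork.IsColimit.ofπ' _ _ fun {A} φ hφ => ⟨kernel.ι (test S t) ≫ φ, ?_⟩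
    have h1 : (kernelIsKernel S.g).lift (KernelFork.ofι S.f S.zero) ≫ kernel.ι S.g = S.f :=
      (kernelIsKernel S.g).fac _ WalkingParallelPair.zero
    have h2 : proj S t ht ≫ kernel.ι (test S t) =
        𝟙 _ - kernel.ι S.g ≫ t ≫ (kernelIsKernel S.g).lift (KernelFork.ofι S.f S.zero) := by
      apply (cancel_mono (kernel.ι S.g)).1
      rw [Category.assoc, proj_ι, Preadditive.sub_comp, Category.assoc, Category.assoc, h1,
        Preadditive.comp_sub, Category.comp_id, Category.id_comp]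
    rw [← Category.assoc, h2, Preadditive.sub_comp, Category.id_comp, Category.assoc, Category.assoc, hφ,
      comp_zero, comp_zero, sub_zero]

theorem nonempty_homology (S : ShortComplex B) (t : S.X₂ ⟶ S.X₁) (ht : S.f ≫ t ≫ S.f = S.f) :
    Nonempty (S.homology ≅ kernel (test S t)) :=
  ⟨S.leftHomologyIso.symm ≪≫ (lhd S t ht).leftHomologyIso⟩

/-- Left exact functors preserve the homology at a place where the incoming map is split. -/
theorem nonempty_map (S : ShortComplex B) (t : S.X₂ ⟶ S.X₁) (ht : S.f ≫ t ≫ S.f = S.f)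
    (H : B ⥤ D) [H.Additive] [PreservesFiniteLimits H] :
    Nonempty ((S.map H).homology ≅ H.obj S.homology) := by
  obtain ⟨e1⟩ := nonempty_homology S t ht
  obtain ⟨e2⟩ := nonempty_homology (S.map H) (H.map t) (by
    change H.map S.f ≫ H.map t ≫ H.map S.f = H.map S.f
    rw [← H.map_comp, ← H.map_comp, ht])
  refine ⟨e2 ≪≫ ?_ ≪≫ H.mapIso e1.symm⟩
  refine (PreservesKernel.iso H (test S t) ≪≫ kernel.mapIso _ _ (PreservesKernel.iso H S.g) (Iso.refl _) ?_).symm
  change H.map (kernel.ι S.g ≫ t ≫ S.f) ≫ 𝟙 _ = (PreservesKernel.iso H S.g).hom ≫ kernel.ι (H.map S.g) ≫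
    H.map t ≫ H.map S.f
  rw [PreservesKernel.iso_hom, kernelComparison_comp_ι_assoc, Category.comp_id, H.map_comp, H.map_comp]

open Groth.Agent.LocCohZ.K287.SplitInj

/-- The first place where a complex of injectives is not exact. -/
theorem nonempty_homology_map (K : CochainComplex B ℕ) (H : B ⥤ D) [H.Additive] [PreservesFiniteLimits H]
    (n : ℕ) (hI : ∀ i : ℕ, i < n → Injective (K.X i)) (hK : ∀ i : ℕ, i < n → K.ExactAt i) :
    Nonempty (((H.mapHomologicalComplex _).obj K).homology n ≅ H.obj (K.homology n)) := by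
  match n, hI, hK with
  | 0, _, _ =>
    have h0 : K.d 0 0 = 0 := K.shape _ _ (by simp)
    obtain ⟨e⟩ := nonempty_map (K.sc' 0 0 1) 0 (by
      change K.d 0 0 ≫ 0 ≫ K.d 0 0 = K.d 0 0
      rw [h0, zero_comp]) H
    exact ⟨((H.mapHomologicalComplex _).obj K).homologyIsoSc' 0 0 1 (by simp) (by simp) ≪≫ e ≪≫
      H.mapIso (K.homologyIsoSc' 0 0 1 (by simp) (by simp)).symm⟩
  | n + 1, hI, hK =>
    obtain ⟨t, ht, -⟩ := exists_contraction K (n + 1) hI hK n (Nat.lt_succ_self n)
    obtain ⟨e⟩ := nonempty_map (K.sc' n (n + 1) (n + 2)) t ht H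
    exact ⟨((H.mapHomologicalComplex _).obj K).homologyIsoSc' n (n + 1) (n + 2) (by simp) (by simp) ≪≫ e ≪≫
      H.mapIso (K.homologyIsoSc' n (n + 1) (n + 2) (by simp) (by simp)).symm⟩

end

section

variable {A : Type*} [Category* A] [Abelian A] [HasInjectiveResolutions A]
  {B : Type*} [Category* B] [Abelian B] {D : Type*} [Category* D] [Abelian D]

open Groth.Agent.LocCohZ.K287.SplitInj

/-- If `G` preserves injectives, `RⁱG(X) = 0` for `i < n` and `H` is left exact, then
`Rⁿ(G ⋙ H)(X) ≅ H(RⁿG(X))`. -/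
theorem nonempty_rightDerived_comp (G : A ⥤ B) [G.Additive] (H : B ⥤ D) [H.Additive] [PreservesFiniteLimits H]
    (hG : ∀ I : A, Injective I → Injective (G.obj I)) (X : A) (n : ℕ)
    (h : ∀ i : ℕ, i < n → IsZero ((G.rightDerived i).obj X)) :
    Nonempty (((G ⋙ H).rightDerived n).obj X ≅ H.obj ((G.rightDerived n).obj X)) := by
  obtain ⟨R⟩ : Nonempty (InjectiveResolution X) := ⟨injectiveResolution X⟩
  have h1 : ∀ i : ℕ, i < n → ((G.mapHomologicalComplex _).obj R.cocomplex).ExactAt i := fun i hi => by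
    rw [HomologicalComplex.exactAt_iff_isZero_homology]
    exact (h i hi).of_iso (R.isoRightDerivedObj G i).symm
  obtain ⟨e⟩ := nonempty_homology_map ((G.mapHomologicalComplex _).obj R.cocomplex) H n
    (fun i _ => hG _ inferInstance) h1
  exact ⟨R.isoRightDerivedObj (G ⋙ H) n ≪≫ e ≪≫ H.mapIso (R.isoRightDerivedObj G n).symm⟩

end

end K288.SplitTop
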