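import Groth.Agent.LocCohZ.K288.SplitTop
import Groth.Agent.LocCohZ.K287.Vanish

/-!
# The first non-vanishing local cohomology sheaf

If `ℋ^i_Z(F) = 0` for `i < n` then `Γ(V, ℋ^n_Z(F)) ≅ H^n_Z(V, F)` for all opens `V`.
-/

set_option autoImplicit false
universe u

open CategoryTheory CategoryTheory.Limits Opposite TopologicalSpace
open Groth.Agent.CohtopB.ExtRD Groth.Agent.CohtopA.RDComp Groth.Agent.LocCohZ.K287

namespace K288.TopSh

variable {X : TopCat.{u}} (U : Opens X) (F : CohTop.Ab X)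

theorem nonempty_iso (n : ℕ) (h : ∀ i : ℕ, i < n → IsZero ((LocCohZ.HZsh U i).obj F)) :
    Nonempty (((LocCohZ.HZsh U n).obj F).obj ≅ (extPre (Sect.zqF U) n).obj F) := by
  obtain ⟨e⟩ := SplitTop.nonempty_rightDerived_comp (LocCohZ.sectSuppF U)
    (sheafToPresheaf (Opens.grothendieckTopology X) AddCommGrpCat.{u})
    (fun I hI => @Inj.injective_sectSuppF _ U I hI) F n h
  exact ⟨e.symm ≪≫ (Vanish.HZshComp U n).app F⟩

theorem nonempty_sections (n : ℕ) (h : ∀ i : ℕ, i < n → IsZero ((LocCohZ.HZsh U i).obj F)) (V : Opens X) :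
    Nonempty (((LocCohZ.HZsh U n).obj F).obj.obj (op V) ≃+ LocCohZ.HZ F n (inf_le_left : V ⊓ U ≤ V)) := by
  obtain ⟨e⟩ := nonempty_iso U F n h
  exact ⟨(e.app (op V)).addCommGroupIsoToAddEquiv⟩

theorem nonempty_HZ_of_eq (n : ℕ) {V W W' : Opens X} (e : W = W') (h : W ≤ V) (h' : W' ≤ V) :
    Nonempty (LocCohZ.HZ F n h ≃+ LocCohZ.HZ F n h') := by
  subst e
  exact ⟨AddEquiv.refl _⟩

theorem nonempty_global (n : ℕ) (h : ∀ i : ℕ, i < n → IsZero ((LocCohZ.HZsh U i).obj F)) :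
    Nonempty (((LocCohZ.HZsh U n).obj F).obj.obj (op ⊤) ≃+ LocCohZ.HZc F n U) := by
  obtain ⟨e1⟩ := nonempty_sections U F n h ⊤
  obtain ⟨e2⟩ := nonempty_HZ_of_eq F n (top_inf_eq U) (inf_le_left : ⊤ ⊓ U ≤ ⊤) (le_top : U ≤ ⊤)
  exact ⟨e1.trans e2⟩

end K288.TopSh
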