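import Groth.Agent.LocCohZ.K288.DepthGen
import Groth.Agent.Localalg.LCRows
import Groth.Agent.S11625

/-!
# Vanishing of the local cohomology sheaves above the dimension
-/

set_option autoImplicit false
universe u

open CategoryTheory CategoryTheory.Limits Opposite AlgebraicGeometry TopologicalSpace

namespace K288.VanDim

theorem subsingleton_H_top {R : Type u} [CommRing R] (i : ℕ) (M : Type u) [AddCommGroup M] [Module R M] :
    Subsingleton (LocCoh.H (⊤ : Ideal R) i M) := by
  apply Groth.Agent.Localalg.DepthLC.subsingleton_H_of_forall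
  intro k
  have h1 : Subsingleton (R ⧸ ((⊤ : Ideal R) ^ k)) :=
    Ideal.Quotient.subsingleton_iff.2 (by rw [← Ideal.one_eq_top, one_pow, Ideal.one_eq_top])
  have h2 : IsZero (ModuleCat.of R (R ⧸ ((⊤ : Ideal R) ^ k))) := ModuleCat.isZero_of_subsingleton _
  refine ⟨fun x y => ?_⟩
  rw [← Abelian.Ext.mk₀_id_comp x, ← Abelian.Ext.mk₀_id_comp y, h2.eq_of_src (𝟙 _) 0, Abelian.Ext.mk₀_zero,
    Abelian.Ext.zero_comp, Abelian.Ext.zero_comp]

theorem subsingleton_H {R : Type u} [CommRing R] [IsNoetherianRing R] (I : Ideal R) (i : ℕ)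
    (h : ∀ (p : Ideal R) [p.IsPrime], I ≤ p → ringKrullDim (Localization.AtPrime p) < (i : WithBot ℕ∞))
    (M : Type u) [AddCommGroup M] [Module R M] : Subsingleton (LocCoh.H I i M) := by
  refine Module.subsingleton_of_localization_maximal (R := R)
    (fun p _ => LocalizedModule p.primeCompl (LocCoh.H I i M))
    (fun p _ => LocalizedModule.mkLinearMap p.primeCompl (LocCoh.H I i M)) ?_
  intro p hp
  obtain ⟨e⟩ := Groth.Agent.Localalg.LCRows.nonempty_localizationEquiv I p.primeCompl i M
  have : IsNoetherianRing (Localization.AtPrime p) :=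
    IsLocalization.isNoetherianRing p.primeCompl _ inferInstance
  by_cases hI : I ≤ p
  · have h1 := Groth.Agent.S11625.result (Localization.AtPrime p)
      (I.map (algebraMap R (Localization.AtPrime p))) (LocalizedModule p.primeCompl M) i
      (lt_of_le_of_lt (Module.supportDim_le_ringKrullDim _ _) (h p hI))
    exact e.toEquiv.subsingleton
  · have h1 : I.map (algebraMap R (Localization.AtPrime p)) = ⊤ := by
      obtain ⟨a, ha, hap⟩ := Set.not_subset.1 hI
      exact Ideal.eq_top_of_isUnit_mem _ (Ideal.mem_map_of_mem _ ha)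
        (IsLocalization.map_units (Localization.AtPrime p) (⟨a, hap⟩ : p.primeCompl))
    have h2 : Subsingleton (LocCoh.H (I.map (algebraMap R (Localization.AtPrime p))) i
        (LocalizedModule p.primeCompl M)) := by
      rw [h1]; exact subsingleton_H_top i _
    exact e.toEquiv.subsingleton

/-- The stalk is the localization at the prime of the point. -/
theorem ringKrullDim_stalk {X : Scheme.{u}} [IsAffine X] (x : X) :
    ringKrullDim (X.presheaf.stalk x) = ringKrullDim (Localization.AtPrime (DepthAff.pr x).asIdeal) := by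
  let _ : Algebra Γ(X, ⊤) (X.presheaf.stalk x) := TopCat.Presheaf.algebra_section_stalk X.presheaf (U := ⊤) ⟨x, trivial⟩
  have h : IsLocalization.AtPrime (X.presheaf.stalk x) (DepthAff.pr x).asIdeal :=
    (isAffineOpen_top X).isLocalization_stalk ⟨x, trivial⟩
  exact ringKrullDim_eq_of_ringEquiv
    (IsLocalization.algEquiv (DepthAff.pr x).asIdeal.primeCompl (X.presheaf.stalk x) _).toRingEquiv

/-- The affine case. -/
theorem subsingleton_HZM {X : Scheme.{u}} [IsAffine X] [IsNoetherianRing Γ(X, ⊤)] (M : X.Modules)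
    (hM : Coh.IsQCoh M) (U : X.Opens) (hU : IsCompact (U : Set X)) (i : ℕ)
    (h : ∀ x : X, x ∉ U → ringKrullDim (X.presheaf.stalk x) < (i : WithBot ℕ∞)) :
    Subsingleton (LocCohZ.HZM X M i U) := by
  obtain ⟨fs, rfl⟩ := LCN.exists_list U hU
  obtain ⟨e⟩ := LCN.nonempty_HZM_H M fs i
  have h1 := subsingleton_H (Ideal.span {a | a ∈ fs}) i (fun p hp hle => by
    obtain ⟨x, hx⟩ := DepthAff.exists_pr (⟨p, hp⟩ : PrimeSpectrum Γ(X, ⊤))
    have h2 : (DepthAff.pr x).asIdeal = p := congrArg PrimeSpectrum.asIdeal hx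
    subst h2
    have h3 := h x ((DepthAff.not_mem_iSup_iff x fs).2 hle)
    rwa [ringKrullDim_stalk] at h3) ((KosAff.secA (RingHom.id Γ(X, ⊤)) M).obj (op ⊤))
  exact e.toEquiv.subsingleton

/-- The case of an affine open subset. -/
theorem subsingleton_HZ {X : Scheme.{u}} [IsLocallyNoetherian X] (M : X.Modules) (hM : Coh.IsQCoh M)
    (U V : X.Opens) (hV : IsAffineOpen V) (i : ℕ)
    (h : ∀ x : X, x ∉ U → ringKrullDim (X.presheaf.stalk x) < (i : WithBot ℕ∞)) :
    Subsingleton (LocCohZ.HZ (X := X.toTopCat) (Coh.toAb M) i (inf_le_left : V ⊓ U ≤ V)) := by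
  obtain ⟨e⟩ := DepthGen.nonempty_HZ_HZM M U V i
  have hV' : IsAffine (V : Scheme.{u}) := hV
  have hN : IsLocallyNoetherian (V : Scheme.{u}) := isLocallyNoetherian_of_isOpenImmersion V.ι
  have hN2 : IsNoetherianRing Γ((V : Scheme.{u}), ⊤) :=
    IsLocallyNoetherian.component_noetherian ⟨⊤, isAffineOpen_top _⟩
  have hc : IsCompact ((V.ι ⁻¹ᵁ (V ⊓ U) : (V : Scheme.{u}).Opens) : Set (V : Scheme.{u})) := by
    have : IsNoetherian (V : Scheme.{u}) := { }
    exact NoetherianSpace.isCompact _
  have hM' : Coh.IsQCoh (M.restrict V.ι) := Groth.Agent.CohqB.LocalQC.isQCoh_restrict V.ι hM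
  have h1 := subsingleton_HZM (M.restrict V.ι) hM' _ hc i (fun x hx => by
    have h2 := h x.1 (fun hh => hx (show x.1 ∈ V ⊓ U from ⟨x.2, hh⟩))
    have h3 : ringKrullDim ((V : Scheme.{u}).presheaf.stalk x) = ringKrullDim (X.presheaf.stalk x.1) :=
      (ringKrullDim_eq_of_ringEquiv (Groth.Agent.Dcoh.StalkRestrict.stalkEquiv V.ι x)).symm
    rwa [h3])
  exact e.toEquiv.subsingleton

/-- **The local cohomology sheaves vanish above the dimension of the local rings along `Z`.** -/
theorem main {X : Scheme.{u}} [IsLocallyNoetherian X] (M : X.Modules) (hM : Coh.IsQCoh M)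
    (U : X.Opens) (i : ℕ)
    (h : ∀ x : X, x ∉ U → ringKrullDim (X.presheaf.stalk x) < (i : WithBot ℕ∞)) :
    IsZero ((LocCohZ.HZsh (X := X.toTopCat) U i).obj (Coh.toAb M)) :=
  DepthGen.isZero_HZsh_of_affine (Coh.toAb M) U i fun V hV => subsingleton_HZ M hM U V hV i h

end K288.VanDim
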