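import Groth.Prelude.Def_LocCohZ

/-!
# Maps out of `ℤ_V/ℤ_W`

`ev F h : (zq h ⟶ F) →+ F(V)` is injective with image the sections vanishing on `W`; it is natural in `F` and in the
pair of opens.
-/

set_option autoImplicit false
universe u
open CategoryTheory CategoryTheory.Limits Opposite TopologicalSpace

namespace K288.ZqHom

variable {X : TopCat.{u}}

/-- Evaluation of a morphism `ℤ_V/ℤ_W ⟶ F` at the canonical section. -/
noncomputable def ev (F : CohTop.Ab X) {W V : Opens X} (h : W ≤ V) :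
    (LocCohZ.zq h ⟶ F) →+ F.obj.obj (op V) where
  toFun φ := CohFree.evalGen (Opens.grothendieckTopology X) V F (cokernel.π _ ≫ φ)
  map_zero' := by rw [comp_zero, map_zero]
  map_add' φ ψ := by rw [Preadditive.comp_add, map_add]

theorem ev_def (F : CohTop.Ab X) {W V : Opens X} (h : W ≤ V) (φ : LocCohZ.zq h ⟶ F) :
    ev F h φ = CohFree.evalGen (Opens.grothendieckTopology X) V F (cokernel.π _ ≫ φ) := rfl

theorem res_ev (F : CohTop.Ab X) {W V : Opens X} (h : W ≤ V) (φ : LocCohZ.zq h ⟶ F) :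
    (F.obj.map (homOfLE h).op).hom (ev F h φ) = 0 := by
  rw [ev_def, ← CohFree.evalGen_freeSheafMap_comp, cokernel.condition_assoc, zero_comp, map_zero]

theorem ev_injective (F : CohTop.Ab X) {W V : Opens X} (h : W ≤ V) :
    Function.Injective (ev F h) := by
  intro φ ψ e
  apply (cancel_epi (cokernel.π _)).1
  exact (CohFree.homEquivSect (Opens.grothendieckTopology X) V F).injective e

theorem ev_eq_zero_iff (F : CohTop.Ab X) {W V : Opens X} (h : W ≤ V) (φ : LocCohZ.zq h ⟶ F) :
    ev F h φ = 0 ↔ φ = 0 :=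
  ⟨fun e => ev_injective F h (e.trans (map_zero _).symm), fun e => by rw [e, map_zero]⟩

theorem exists_ev (F : CohTop.Ab X) {W V : Opens X} (h : W ≤ V) (s : F.obj.obj (op V))
    (hs : (F.obj.map (homOfLE h).op).hom s = 0) : ∃ φ : LocCohZ.zq h ⟶ F, ev F h φ = s := by
  refine ⟨cokernel.desc _ (CohFree.ofSect (Opens.grothendieckTopology X) V F s) ?_, ?_⟩
  · apply (CohFree.homEquivSect (Opens.grothendieckTopology X) W F).injective
    rw [map_zero, CohFree.homEquivSect_apply, CohFree.evalGen_freeSheafMap_comp, CohFree.evalGen_ofSect]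
    exact hs
  · rw [ev_def, cokernel.π_desc, CohFree.evalGen_ofSect]

@[reassoc]
theorem π_zqMap {W V W' V' : Opens X} (h : W ≤ V) (h' : W' ≤ V') (hW : W' ≤ W) (hV : V' ≤ V) :
    cokernel.π (CohCx.freeSheafMap (Opens.grothendieckTopology X) (homOfLE h')) ≫ LocCohZ.zqMap h h' hW hV =
      CohCx.freeSheafMap (Opens.grothendieckTopology X) (homOfLE hV) ≫
        cokernel.π (CohCx.freeSheafMap (Opens.grothendieckTopology X) (homOfLE h)) :=
  cokernel.π_desc _ _ _

/-- Naturality in the pair of opens. -/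
theorem ev_zqMap_comp (F : CohTop.Ab X) {W V W' V' : Opens X} (h : W ≤ V) (h' : W' ≤ V') (hW : W' ≤ W)
    (hV : V' ≤ V) (φ : LocCohZ.zq h ⟶ F) :
    ev F h' (LocCohZ.zqMap h h' hW hV ≫ φ) = (F.obj.map (homOfLE hV).op).hom (ev F h φ) := by
  rw [ev_def, ev_def, ← CohFree.evalGen_freeSheafMap_comp, π_zqMap_assoc]

/-- Naturality in the sheaf. -/
theorem ev_comp {F G : CohTop.Ab X} (ψ : F ⟶ G) {W V : Opens X} (h : W ≤ V) (φ : LocCohZ.zq h ⟶ F) :
    ev G h (φ ≫ ψ) = (ψ.hom.app (op V)).hom (ev F h φ) := rfl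

/-- Functoriality of `zqMap`. -/
theorem zqMap_comp {W V W' V' W'' V'' : Opens X} (h : W ≤ V) (h' : W' ≤ V') (h'' : W'' ≤ V'') (hW : W' ≤ W)
    (hV : V' ≤ V) (hW' : W'' ≤ W') (hV' : V'' ≤ V') :
    LocCohZ.zqMap h' h'' hW' hV' ≫ LocCohZ.zqMap h h' hW hV =
      LocCohZ.zqMap h h'' (hW'.trans hW) (hV'.trans hV) := by
  apply (cancel_epi (cokernel.π _)).1
  rw [π_zqMap_assoc, π_zqMap, π_zqMap, ← Category.assoc, ← CohFree.freeSheafMap_comp]
  rfl

theorem zqMap_self {W V : Opens X} (h : W ≤ V) : LocCohZ.zqMap h h le_rfl le_rfl = 𝟙 _ := by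
  apply (cancel_epi (cokernel.π _)).1
  rw [π_zqMap, Category.comp_id]
  refine Eq.trans ?_ (Category.id_comp _)
  congr 1
  exact CohFree.freeSheafMap_id (Opens.grothendieckTopology X) V

/-- For an injective sheaf the restrictions are surjective. -/
theorem restrict_surjective_of_injective (I : CohTop.Ab X) [Injective I] {W V : Opens X} (h : W ≤ V) :
    Function.Surjective (I.obj.map (homOfLE h).op).hom := by
  intro t
  have : Mono (CohCx.freeSheafMap (Opens.grothendieckTopology X) (homOfLE h)) :=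
    (LocCohZ.zqSeq_shortExact h).mono_f
  refine ⟨CohFree.evalGen (Opens.grothendieckTopology X) V I
    (Injective.factorThru (CohFree.ofSect (Opens.grothendieckTopology X) W I t)
      (CohCx.freeSheafMap (Opens.grothendieckTopology X) (homOfLE h))), ?_⟩
  rw [← CohFree.evalGen_freeSheafMap_comp, Injective.comp_factorThru, CohFree.evalGen_ofSect]

end K288.ZqHom
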